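import Groth.Prelude.Def_SGA3x
import Groth.Agent.FlatA.NilpotentFree
import Mathlib.AlgebraicGeometry.Artinian
import Mathlib.AlgebraicGeometry.Morphisms.FlatDescent
import Mathlib.RingTheory.Flat.FaithfullyFlat.Descent

/-!
# Essentially free morphisms: flatness, base change, the artinian and field cases
-/

set_option autoImplicit false

universe u

open CategoryTheory Limits AlgebraicGeometry

namespace K205.EssFree

/-- Flatness codescends along faithfully flat ring maps. -/
theorem flat_codescends : RingHom.CodescendsAlong.{u} RingHom.Flat RingHom.FaithfullyFlat := by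
  refine RingHom.CodescendsAlong.mk _ RingHom.Flat.respectsIso fun R S T _ _ _ _ _ h h' ↦ ?_
  rw [RingHom.flat_algebraMap_iff] at h' ⊢
  rw [RingHom.faithfullyFlat_algebraMap_iff] at h
  exact Module.Flat.of_flat_tensorProduct R T S

theorem flat_descends : MorphismProperty.DescendsAlong @Flat
    (@Surjective ⊓ @Flat ⊓ @QuasiCompact : MorphismProperty Scheme.{u}) :=
  HasRingHomProperty.descendsAlong_flat flat_codescends

/-- An essentially free morphism is flat. -/
theorem flat_of_isEssentiallyFree {X S : Scheme.{u}} (f : X ⟶ S) (hf : SGA3x.IsEssentiallyFree f) :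
    Flat f := by
  have := flat_descends.{u}
  have : IsZariskiLocalAtTarget (@Flat.{u}) :=
    HasRingHomProperty.instIsZariskiLocalAtTarget @Flat (Q := RingHom.Flat)
  have : IsZariskiLocalAtSource (@Flat.{u}) :=
    HasRingHomProperty.instIsZariskiLocalAtSource (P := @Flat) (Q := RingHom.Flat)
  apply IsZariskiLocalAtTarget.of_forall_exists_morphismRestrict
  intro s
  obtain ⟨U, hsU, hU, S', hS', g, hg, hgs, h⟩ := hf s
  refine ⟨U, hsU, ?_⟩
  have hUa : IsAffine U := hU
  have hqc : QuasiCompact g := inferInstance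
  apply MorphismProperty.of_pullback_snd_of_descendsAlong (P := @Flat)
    (Q := @Surjective ⊓ @Flat ⊓ @QuasiCompact) (g := g) ⟨⟨hgs, hg⟩, hqc⟩
  have h1 : Flat (pullback.snd f (g ≫ U.ι)) := by
    choose V hxV hV hproj using h
    let 𝒰 : (pullback f (g ≫ U.ι)).OpenCover :=
      Scheme.openCoverOfIsOpenCover _ V (TopologicalSpace.IsOpenCover.mk (by
        rw [eq_top_iff]
        intro x _
        exact TopologicalSpace.Opens.mem_iSup.mpr ⟨x, hxV x⟩))
    rw [IsZariskiLocalAtSource.iff_of_openCover (P := @Flat) 𝒰]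
    intro x
    have hVa : IsAffine (V x) := hV x
    change Flat ((V x).ι ≫ pullback.snd f (g ≫ U.ι))
    rw [HasRingHomProperty.iff_of_isAffine (P := @Flat)]
    let := ((V x).ι ≫ pullback.snd f (g ≫ U.ι)).appTop.hom.toAlgebra
    have h2 : Module.Projective Γ(S', ⊤) Γ(↑(V x), ⊤) := hproj x
    have h3 : Module.Flat Γ(S', ⊤) Γ(↑(V x), ⊤) := inferInstance
    exact h3
  have h2 := (IsPullback.of_hasPullback (f ∣_ U) g).paste_horiz
    (isPullback_morphismRestrict f U).flip
  have h4 : pullback.snd (f ∣_ U) g = h2.isoPullback.hom ≫ pullback.snd f (g ≫ U.ι) :=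
    (h2.isoPullback_hom_snd).symm
  rw [h4]
  infer_instance

/-- Flat schemes over artinian rings are essentially free. -/
theorem isEssentiallyFree_of_flat_artinian (A : Type u) [CommRing A] [IsArtinianRing A]
    {X : Scheme.{u}} (f : X ⟶ Spec (CommRingCat.of A)) [Flat f] : SGA3x.IsEssentiallyFree f := by
  intro s
  have hart : IsLocallyArtinian (Spec (CommRingCat.of A)) :=
    Scheme.isLocallyArtinianScheme_Spec.mpr inferInstance
  have hdisc : DiscreteTopology (Spec (CommRingCat.of A)) := inferInstance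
  obtain ⟨_, ⟨U, hU, rfl⟩, hsU, hU1⟩ :=
    (Spec (CommRingCat.of A)).isBasis_affineOpens.exists_subset_of_mem_open
      (Set.mem_singleton s) (isOpen_discrete {s})
  change (Spec (CommRingCat.of A)).Opens at U
  have hUa : IsAffine U := hU
  refine ⟨U, hsU, hU, U, hUa, 𝟙 _, inferInstance, inferInstance, fun x => ?_⟩
  obtain ⟨_, ⟨V, hV, rfl⟩, hxV, -⟩ :=
    (pullback f (𝟙 _ ≫ U.ι)).isBasis_affineOpens.exists_subset_of_mem_open
      (Set.mem_univ x) isOpen_univ
  change Scheme.Opens _ at V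
  refine ⟨V, hxV, hV, ?_⟩
  have hVa : IsAffine V := hV
  let := (V.ι ≫ pullback.snd f (𝟙 _ ≫ U.ι)).appTop.hom.toAlgebra
  have h1 : Flat (V.ι ≫ pullback.snd f (𝟙 _ ≫ U.ι)) := inferInstance
  have h2 : Module.Flat Γ(↑U, ⊤) Γ(↑V, ⊤) :=
    (HasRingHomProperty.iff_of_isAffine (P := @Flat)).mp h1
  have h3 : IsArtinianRing Γ(↑U, ⊤) := inferInstance
  have hsub : Subsingleton U := by
    constructor
    rintro ⟨a, ha⟩ ⟨b, hb⟩
    exact Subtype.ext ((hU1 ha).trans (hU1 hb).symm)
  have h4 : Subsingleton (PrimeSpectrum Γ(↑U, ⊤)) :=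
    (U.toScheme.isoSpec.inv.homeomorph).injective.subsingleton
  have h5 : Nonempty (PrimeSpectrum Γ(↑U, ⊤)) := ⟨U.toScheme.isoSpec.hom ⟨s, hsU⟩⟩
  have h6 : IsLocalRing Γ(↑U, ⊤) := by
    obtain ⟨p⟩ := h5
    have : Nontrivial Γ(↑U, ⊤) := PrimeSpectrum.nonempty_iff_nontrivial.mp ⟨p⟩
    obtain ⟨m, hm⟩ := Ideal.exists_maximal Γ(↑U, ⊤)
    refine IsLocalRing.of_unique_max_ideal ⟨m, hm, fun m' hm' => ?_⟩
    exact congrArg PrimeSpectrum.asIdeal
      (Subsingleton.elim (⟨m', hm'.isPrime⟩ : PrimeSpectrum Γ(↑U, ⊤)) ⟨m, hm.isPrime⟩)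
  have h7 : Module.Free Γ(↑U, ⊤) Γ(↑V, ⊤) :=
    Groth.Agent.FlatA.NilpotentFree.free_of_flat_of_isNilpotent (by
      have := IsArtinianRing.isNilpotent_jacobson_bot (R := Γ(↑U, ⊤))
      rwa [IsLocalRing.jacobson_eq_maximalIdeal _ bot_ne_top] at this)
  infer_instance

/-- Schemes over a field are essentially free. -/
theorem isEssentiallyFree_of_field (k : Type u) [Field k]
    {X : Scheme.{u}} (f : X ⟶ Spec (CommRingCat.of k)) : SGA3x.IsEssentiallyFree f := by
  have : Flat f := inferInstance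
  exact isEssentiallyFree_of_flat_artinian k f

theorem projective_of_isPushout {A B R C : CommRingCat.{u}} {f : A ⟶ B} {g : A ⟶ R} {inl : B ⟶ C}
    {inr : R ⟶ C} (h : IsPushout f g inl inr)
    (hproj : letI := f.hom.toAlgebra; Module.Projective A B) :
    letI := inr.hom.toAlgebra; Module.Projective R C := by
  let := f.hom.toAlgebra
  let := g.hom.toAlgebra
  let := inl.hom.toAlgebra
  let := inr.hom.toAlgebra
  let : Algebra A C := (f ≫ inl).hom.toAlgebra
  have h1 : IsScalarTower A B C := .of_algebraMap_eq' rfl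
  have h2 : IsScalarTower A R C := .of_algebraMap_eq' (by
    change (f ≫ inl).hom = _
    rw [h.w]; rfl)
  have h3 : Algebra.IsPushout A R B C := by
    rw [← CommRingCat.isPushout_iff_isPushout]
    exact h.flip
  exact Module.Projective.of_equiv h3.out.equiv

/-- Base change of essentially free morphisms. -/
theorem isEssentiallyFree_pullback_snd {X S S' : Scheme.{u}} (f : X ⟶ S) (g : S' ⟶ S)
    (hf : SGA3x.IsEssentiallyFree f) : SGA3x.IsEssentiallyFree (pullback.snd f g) := by
  intro s'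
  obtain ⟨U, hsU, hU, T, hT, h, hh, hhs, H⟩ := hf (g s')
  have hUa : IsAffine U := hU
  obtain ⟨_, ⟨U', hU', rfl⟩, hsU', hU'1⟩ :=
    S'.isBasis_affineOpens.exists_subset_of_mem_open (show s' ∈ g ⁻¹ᵁ U from hsU) (g ⁻¹ᵁ U).isOpen
  change S'.Opens at U'
  have hU'a : IsAffine U' := hU'
  have hle : U' ≤ g ⁻¹ᵁ U := hU'1
  let gU : U'.toScheme ⟶ U.toScheme := g.resLE U U' hle
  have hgU : gU ≫ U.ι = U'.ι ≫ g := g.resLE_comp_ι hle
  refine ⟨U', hsU', hU', pullback h gU, inferInstance, pullback.snd h gU, inferInstance,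
    inferInstance, fun x => ?_⟩
  let q : pullback (pullback.snd f g) (pullback.snd h gU ≫ U'.ι) ⟶ pullback f (h ≫ U.ι) :=
    pullback.lift (pullback.fst _ _ ≫ pullback.fst _ _) (pullback.snd _ _ ≫ pullback.fst _ _) (by
      rw [Category.assoc, Category.assoc, pullback.condition, pullback.condition_assoc,
        Category.assoc, ← hgU, pullback.condition_assoc])
  have hq : IsPullback q (pullback.snd (pullback.snd f g) (pullback.snd h gU ≫ U'.ι))
      (pullback.snd f (h ≫ U.ι)) (pullback.fst h gU) := by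
    refine IsPullback.of_right (t := (IsPullback.of_hasPullback f (h ≫ U.ι))) ?_
      (pullback.lift_snd _ _ _)
    have h1 : q ≫ pullback.fst f (h ≫ U.ι) = pullback.fst _ _ ≫ pullback.fst _ _ :=
      pullback.lift_fst _ _ _
    have h2 : pullback.fst h gU ≫ h ≫ U.ι = (pullback.snd h gU ≫ U'.ι) ≫ g := by
      rw [pullback.condition_assoc, hgU, Category.assoc]
    rw [h1, h2]
    exact (IsPullback.of_hasPullback (pullback.snd f g) (pullback.snd h gU ≫ U'.ι)).paste_horiz
      (IsPullback.of_hasPullback f g)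
  obtain ⟨V, hxV, hV, hproj⟩ := H (q x)
  have hVa : IsAffine V := hV
  have h4 := (isPullback_morphismRestrict q V).paste_vert hq
  have hWa : IsAffine (q ⁻¹ᵁ V) := by
    have : IsAffineHom ((q ⁻¹ᵁ V).ι ≫ pullback.snd (pullback.snd f g) (pullback.snd h gU ≫ U'.ι)) := by
      have : IsAffineHom (V.ι ≫ pullback.snd f (h ≫ U.ι)) := inferInstance
      exact MorphismProperty.of_isPullback h4 this
    exact isAffine_of_isAffineHom ((q ⁻¹ᵁ V).ι ≫
      pullback.snd (pullback.snd f g) (pullback.snd h gU ≫ U'.ι))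
  refine ⟨q ⁻¹ᵁ V, hxV, hWa, ?_⟩
  have h5 := isPushout_appTop_of_isPullback h4
  exact projective_of_isPushout h5 hproj

end K205.EssFree
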