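import Groth.Prelude.Def_AlgGrp
import Groth.Prelude.Def_Red2
import Groth.Agent.SGA3.K205.EssFree
import Groth.Agent.S4101
import Groth.Agent.Sga3C.LocClosedGrp
import Groth.Agent.Sga3C.SubGrp
import Groth.Agent.Sga3C.ClosedSub
import Mathlib.AlgebraicGeometry.Group.Abelian

/-!
# Closed transporters, normalizers and centralizers

`exists_closed`: for `X` essentially free over `S`, `c : X ⊗ G ⟶ W` and a closed immersion `j : Y ⟶ W`
the condition `c(X, g) ⊆ Y` on points `g` of `G` is represented by a closed subscheme of `G`.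
-/

set_option autoImplicit false

universe v u

open CategoryTheory Limits MonoidalCategory CartesianMonoidalCategory MonObj GrpObj AlgebraicGeometry

namespace K205.Transporter

section Cat

variable {C : Type u} [Category.{v} C]

theorem isIso_snd_iff {Y Z P : C} (j : Y ⟶ Z) [Mono j] (h : P ⟶ Z) [HasPullback j h] :
    IsIso (pullback.snd j h) ↔ ∃ l : P ⟶ Y, l ≫ j = h := by
  constructor
  · intro _
    exact ⟨inv (pullback.snd j h) ≫ pullback.fst j h, by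
      rw [Category.assoc, pullback.condition, IsIso.inv_hom_id_assoc]⟩
  · rintro ⟨l, hl⟩
    refine ⟨pullback.lift l (𝟙 _) (by rw [hl, Category.id_comp]), ?_, pullback.lift_snd _ _ _⟩
    rw [← cancel_mono (pullback.snd j h), Category.assoc, pullback.lift_snd, Category.comp_id,
      Category.id_comp]

variable [CartesianMonoidalCategory C]

/-- A subobject of a group object whose points are stable under the group operations is a subgroup. -/
theorem exists_grpObj_of_mem {G N : C} [GrpObj G] (n : N ⟶ G) [Mono n]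
    (h1 : ∃ z : 𝟙_ C ⟶ N, z ≫ n = η[G])
    (hmul : ∀ {T : C} (g g' : T ⟶ G), (∃ z : T ⟶ N, z ≫ n = g) → (∃ z : T ⟶ N, z ≫ n = g') →
      ∃ z : T ⟶ N, z ≫ n = g * g')
    (hinv : ∀ {T : C} (g : T ⟶ G), (∃ z : T ⟶ N, z ≫ n = g) → ∃ z : T ⟶ N, z ≫ n = g⁻¹) :
    ∃ _ : GrpObj N, IsMonHom n := by
  refine Groth.Agent.Sga3C.SubGrp.exists_grpObj_of_mono n ?_ h1 ?_
  · obtain ⟨m, hm⟩ := hmul (fst N N ≫ n) (snd N N ≫ n) ⟨_, rfl⟩ ⟨_, rfl⟩
    refine ⟨m, ?_⟩
    rw [hm, Hom.mul_def]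
    congr 1
    ext1 <;> simp
  · obtain ⟨m, hm⟩ := hinv n ⟨𝟙 N, Category.id_comp n⟩
    exact ⟨m, by rw [hm, Hom.inv_def]⟩

/-- The conjugation `(x, g) ↦ g u(x) g⁻¹`. -/
def cj {G X : C} [GrpObj G] (u : X ⟶ G) : X ⊗ G ⟶ G := snd X G * (fst X G ≫ u) * (snd X G)⁻¹

/-- The conjugation `(x, g) ↦ g⁻¹ u(x) g`. -/
def cj' {G X : C} [GrpObj G] (u : X ⟶ G) : X ⊗ G ⟶ G := (snd X G)⁻¹ * (fst X G ≫ u) * (snd X G)

theorem whiskerLeft_cj {G X T : C} [GrpObj G] (u : X ⟶ G) (g : T ⟶ G) :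
    (X ◁ g) ≫ cj u = (snd X T ≫ g) * (fst X T ≫ u) * (snd X T ≫ g)⁻¹ := by
  simp only [cj, comp_mul, GrpObj.comp_inv, whiskerLeft_snd, whiskerLeft_fst_assoc]

theorem whiskerLeft_cj' {G X T : C} [GrpObj G] (u : X ⟶ G) (g : T ⟶ G) :
    (X ◁ g) ≫ cj' u = (snd X T ≫ g)⁻¹ * (fst X T ≫ u) * (snd X T ≫ g) := by
  simp only [cj', comp_mul, GrpObj.comp_inv, whiskerLeft_snd, whiskerLeft_fst_assoc]

theorem factor_cj_iff {G X Y T : C} [GrpObj G] (u : X ⟶ G) (y : Y ⟶ G) (g : T ⟶ G) :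
    (∃ y' : X ⊗ T ⟶ Y, y' ≫ y = (X ◁ g) ≫ cj u) ↔
      ∀ (T' : C) (s : T' ⟶ T) (x : T' ⟶ X), ∃ x' : T' ⟶ Y,
        (s ≫ g) * (x ≫ u) * (s ≫ g)⁻¹ = x' ≫ y := by
  rw [whiskerLeft_cj]
  constructor
  · rintro ⟨y', hy'⟩ T' s x
    refine ⟨lift x s ≫ y', ?_⟩
    rw [Category.assoc, hy']
    simp only [comp_mul, GrpObj.comp_inv, lift_fst_assoc, lift_snd_assoc]
  · intro h
    obtain ⟨x', hx'⟩ := h (X ⊗ T) (snd X T) (fst X T)
    exact ⟨x', hx'.symm⟩

theorem factor_cj'_iff {G X Y T : C} [GrpObj G] (u : X ⟶ G) (y : Y ⟶ G) (g : T ⟶ G) :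
    (∃ y' : X ⊗ T ⟶ Y, y' ≫ y = (X ◁ g) ≫ cj' u) ↔
      ∀ (T' : C) (s : T' ⟶ T) (x : T' ⟶ X), ∃ x' : T' ⟶ Y,
        (s ≫ g)⁻¹ * (x ≫ u) * (s ≫ g) = x' ≫ y := by
  rw [whiskerLeft_cj']
  constructor
  · rintro ⟨y', hy'⟩ T' s x
    refine ⟨lift x s ≫ y', ?_⟩
    rw [Category.assoc, hy']
    simp only [comp_mul, GrpObj.comp_inv, lift_fst_assoc, lift_snd_assoc]
  · intro h
    obtain ⟨x', hx'⟩ := h (X ⊗ T) (snd X T) (fst X T)
    exact ⟨x', hx'.symm⟩

end Cat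

section General

variable {S : Scheme.{u}}

/-- The condition `c(X, g) ⊆ Y` is representable by a closed subscheme when `X` is essentially free. -/
theorem exists_closed {G X W Y : Over S} (hX : SGA3x.IsEssentiallyFree X.hom) (c : X ⊗ G ⟶ W)
    (j : Y ⟶ W) [IsClosedImmersion j.left] :
    ∃ (T : Over S) (t : T ⟶ G), IsClosedImmersion t.left ∧
      ∀ (S' : Over S) (g : S' ⟶ G), (∃ z : S' ⟶ T, z ≫ t = g) ↔
        ∃ y : X ⊗ S' ⟶ Y, y ≫ j = (X ◁ g) ≫ c := by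
  let f := (snd X G).left
  have hf : SGA3x.IsEssentiallyFree f := K205.EssFree.isEssentiallyFree_pullback_snd X.hom G.hom hX
  obtain ⟨T, t, ht, hT, -⟩ := Groth.Agent.S4101.result G.left (X ⊗ G).left (pullback j.left c.left)
    f hf (pullback.snd j.left c.left)
  refine ⟨Over.mk (t ≫ G.hom), Over.homMk t, ht, fun S' g => ?_⟩
  have hsq := Groth.Agent.Sga3C.SchemImage.isPullback_whiskerLeft_left g X
  have h1 : (∃ z : S' ⟶ Over.mk (t ≫ G.hom), z ≫ Over.homMk t = g) ↔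
      ∃ g' : S'.left ⟶ T, g' ≫ t = g.left := by
    constructor
    · rintro ⟨z, rfl⟩
      exact ⟨z.left, rfl⟩
    · rintro ⟨g', hg'⟩
      refine ⟨Over.homMk g' ?_, ?_⟩
      · change g' ≫ t ≫ G.hom = _
        rw [reassoc_of% hg', Over.w]
      · ext; exact hg'
  rw [h1, hT, isIso_snd_iff]
  constructor
  · rintro ⟨l, hl⟩
    refine ⟨Over.homMk (hsq.isoPullback.hom ≫ l ≫ pullback.fst j.left c.left) ?_, ?_⟩
    · rw [← Over.w j, Category.assoc, Category.assoc, pullback.condition_assoc, reassoc_of% hl,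
        hsq.isoPullback_hom_fst_assoc, ← Over.comp_left_assoc, Over.w]
    · ext
      change (hsq.isoPullback.hom ≫ l ≫ pullback.fst j.left c.left) ≫ j.left = _
      rw [Category.assoc, Category.assoc, pullback.condition, reassoc_of% hl,
        hsq.isoPullback_hom_fst_assoc, Over.comp_left]
  · rintro ⟨y, hy⟩
    refine ⟨pullback.lift (hsq.isoPullback.inv ≫ y.left) (pullback.fst _ _) ?_,
      pullback.lift_snd _ _ _⟩
    rw [Category.assoc, ← Over.comp_left, hy, Over.comp_left, hsq.isoPullback_inv_fst_assoc]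

/-- Intersection of two closed subobjects. -/
theorem exists_inter {G T₁ T₂ : Over S} (t₁ : T₁ ⟶ G) (t₂ : T₂ ⟶ G) [IsClosedImmersion t₁.left]
    [IsClosedImmersion t₂.left] :
    ∃ (T : Over S) (t : T ⟶ G), IsClosedImmersion t.left ∧
      ∀ (S' : Over S) (g : S' ⟶ G), (∃ z : S' ⟶ T, z ≫ t = g) ↔
        (∃ z : S' ⟶ T₁, z ≫ t₁ = g) ∧ (∃ z : S' ⟶ T₂, z ≫ t₂ = g) := by
  have h0 : IsClosedImmersion (pullback.fst t₁.left t₂.left ≫ t₁.left) := inferInstance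
  refine ⟨Over.mk ((pullback.fst t₁.left t₂.left ≫ t₁.left) ≫ G.hom),
    Over.homMk (pullback.fst t₁.left t₂.left ≫ t₁.left), h0, fun S' g => ?_⟩
  constructor
  · rintro ⟨z, rfl⟩
    refine ⟨⟨Over.homMk (z.left ≫ pullback.fst t₁.left t₂.left) ?_, ?_⟩,
      ⟨Over.homMk (z.left ≫ pullback.snd t₁.left t₂.left) ?_, ?_⟩⟩
    · rw [← Over.w t₁, ← Over.w z]
      simp
    · ext; simp
    · rw [← Over.w t₂, ← Over.w z, Category.assoc, ← pullback.condition_assoc]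
      simp
    · ext; simp [pullback.condition]
  · rintro ⟨⟨z₁, hz₁⟩, ⟨z₂, hz₂⟩⟩
    refine ⟨Over.homMk (pullback.lift z₁.left z₂.left (by
      rw [← Over.comp_left, hz₁, ← Over.comp_left, hz₂])) ?_, ?_⟩
    · change pullback.lift z₁.left z₂.left _ ≫ (pullback.fst t₁.left t₂.left ≫ t₁.left) ≫ G.hom = _
      rw [Category.assoc, pullback.lift_fst_assoc, Over.w, Over.w]
    · ext
      change pullback.lift z₁.left z₂.left _ ≫ (pullback.fst t₁.left t₂.left ≫ t₁.left) = _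
      rw [pullback.lift_fst_assoc, ← hz₁, Over.comp_left]

/-- An immersive homomorphism of group schemes over a field is a closed immersion. -/
theorem isClosedImmersion_of_isImmersion {k : Type u} [Field k]
    {H G : Over (Spec (CommRingCat.of k))} [GrpObj H] [GrpObj G] (h : H ⟶ G) [IsMonHom h]
    [IsImmersion h.left] : IsClosedImmersion h.left := by
  have hsub : Subsingleton (Spec (CommRingCat.of k)) := inferInstanceAs (Subsingleton (PrimeSpectrum k))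
  have huo : ∀ T : Over (Spec (CommRingCat.of k)), UniversallyOpen T.hom := fun T => inferInstance
  -- the closure with its reduced structure
  let N : TopologicalSpace.Closeds G.left := ⟨closure (Set.range h.left), isClosed_closure⟩
  let I := Scheme.IdealSheafData.vanishingIdeal N
  let i := Groth.Agent.Sga3C.ClosedSub.subι G I
  have hi : Set.range i.left = closure (Set.range h.left) := by
    change Set.range I.subschemeι = _
    rw [Scheme.IdealSheafData.range_subschemeι]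
    simp [I, N]
  have hcl : IsClosed (Set.range h.left) := by
    obtain ⟨U, Z, hU, hZ, hUZ⟩ := h.left.isLocallyClosed_range
    have h1 : Set.range h.left ⊆ U := hUZ ▸ Set.inter_subset_left
    have h2 : closure (Set.range h.left) ⊆ Z := closure_minimal (hUZ ▸ Set.inter_subset_right) hZ
    exact Groth.Agent.Sga3C.LocClosedGrp.isClosed_range_of_locallyClosed h huo i hi U hU
      (fun x hx => hUZ ▸ ⟨hx.2, h2 hx.1⟩) h1
  exact IsClosedImmersion.of_isPreimmersion h.left hcl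

end General

section Field

variable {k : Type u} [Field k] {G X Y : Over (Spec (CommRingCat.of k))} [GrpObj G]

/-- The transporter of a morphism to another one is closed. -/
theorem exists_transporter_hom (u v : X ⟶ G) :
    ∃ (T : Over (Spec (CommRingCat.of k))) (t : T ⟶ G), IsClosedImmersion t.left ∧
      ∀ (S' : Over (Spec (CommRingCat.of k))) (g : S' ⟶ G), (∃ z : S' ⟶ T, z ≫ t = g) ↔
        ∀ (S'' : Over (Spec (CommRingCat.of k))) (s : S'' ⟶ S') (x : S'' ⟶ X),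
          (s ≫ g) * (x ≫ u) * (s ≫ g)⁻¹ = x ≫ v := by
  have hη : IsClosedImmersion (η[G] : 𝟙_ (Over (Spec (CommRingCat.of k))) ⟶ G).left := inferInstance
  obtain ⟨T, t, ht, hT⟩ := exists_closed (X := X) (K205.EssFree.isEssentiallyFree_of_field k X.hom)
    (cj u * (fst X G ≫ v)⁻¹) η[G]
  refine ⟨T, t, ht, fun S' g => ?_⟩
  rw [hT]
  have h1 : (X ◁ g) ≫ (cj u * (fst X G ≫ v)⁻¹) =
      ((X ◁ g) ≫ cj u) * (fst X S' ≫ v)⁻¹ := by
    rw [comp_mul, GrpObj.comp_inv, whiskerLeft_fst_assoc]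
  rw [h1]
  constructor
  · rintro ⟨y, hy⟩ S'' s x
    have h2 : ((X ◁ g) ≫ cj u) * (fst X S' ≫ v)⁻¹ = 1 := by
      rw [← hy, toUnit_unique y (toUnit _), Hom.one_def]
    have h3 := mul_inv_eq_one.mp h2
    rw [whiskerLeft_cj] at h3
    have h4 := congrArg (lift x s ≫ ·) h3
    simpa only [comp_mul, GrpObj.comp_inv, lift_fst_assoc, lift_snd_assoc] using h4
  · intro h
    refine ⟨toUnit _, ?_⟩
    rw [← Hom.one_def, eq_comm, mul_inv_eq_one, whiskerLeft_cj]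
    exact h (X ⊗ S') (snd X S') (fst X S')

/-- The transporter of a subobject into a closed subscheme is closed. -/
theorem exists_transporter_sub (y' : X ⟶ G) (y : Y ⟶ G) [IsClosedImmersion y.left] :
    ∃ (T : Over (Spec (CommRingCat.of k))) (t : T ⟶ G), IsClosedImmersion t.left ∧
      ∀ (S' : Over (Spec (CommRingCat.of k))) (g : S' ⟶ G), (∃ z : S' ⟶ T, z ≫ t = g) ↔
        ∀ (S'' : Over (Spec (CommRingCat.of k))) (s : S'' ⟶ S') (x : S'' ⟶ X),
          ∃ x' : S'' ⟶ Y, (s ≫ g) * (x ≫ y') * (s ≫ g)⁻¹ = x' ≫ y := by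
  obtain ⟨T, t, ht, hT⟩ := exists_closed (X := X) (K205.EssFree.isEssentiallyFree_of_field k X.hom)
    (cj y') y
  exact ⟨T, t, ht, fun S' g => by rw [hT, factor_cj_iff]⟩

/-- The transporter of a subobject into a closed subscheme by inverse conjugation is closed. -/
theorem exists_transporter_sub' (y' : X ⟶ G) (y : Y ⟶ G) [IsClosedImmersion y.left] :
    ∃ (T : Over (Spec (CommRingCat.of k))) (t : T ⟶ G), IsClosedImmersion t.left ∧
      ∀ (S' : Over (Spec (CommRingCat.of k))) (g : S' ⟶ G), (∃ z : S' ⟶ T, z ≫ t = g) ↔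
        ∀ (S'' : Over (Spec (CommRingCat.of k))) (s : S'' ⟶ S') (x : S'' ⟶ X),
          ∃ x' : S'' ⟶ Y, (s ≫ g)⁻¹ * (x ≫ y') * (s ≫ g) = x' ≫ y := by
  obtain ⟨T, t, ht, hT⟩ := exists_closed (X := X) (K205.EssFree.isEssentiallyFree_of_field k X.hom)
    (cj' y') y
  exact ⟨T, t, ht, fun S' g => by rw [hT, factor_cj'_iff]⟩

/-- The strict transporter between closed subschemes is closed. -/
theorem exists_strict_transporter (y' : X ⟶ G) (y : Y ⟶ G) [IsClosedImmersion y.left]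
    [IsClosedImmersion y'.left] :
    ∃ (T : Over (Spec (CommRingCat.of k))) (t : T ⟶ G), IsClosedImmersion t.left ∧
      ∀ (S' : Over (Spec (CommRingCat.of k))) (g : S' ⟶ G), (∃ z : S' ⟶ T, z ≫ t = g) ↔
        ((∀ (S'' : Over (Spec (CommRingCat.of k))) (s : S'' ⟶ S') (x : S'' ⟶ X),
          ∃ x' : S'' ⟶ Y, (s ≫ g) * (x ≫ y') * (s ≫ g)⁻¹ = x' ≫ y) ∧
        (∀ (S'' : Over (Spec (CommRingCat.of k))) (s : S'' ⟶ S') (x' : S'' ⟶ Y),
          ∃ x : S'' ⟶ X, (s ≫ g)⁻¹ * (x' ≫ y) * (s ≫ g) = x ≫ y')) := by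
  obtain ⟨T₁, t₁, ht₁, hT₁⟩ := exists_transporter_sub y' y
  obtain ⟨T₂, t₂, ht₂, hT₂⟩ := exists_transporter_sub' y y'
  obtain ⟨T, t, ht, hT⟩ := exists_inter t₁ t₂
  exact ⟨T, t, ht, fun S' g => by rw [hT, hT₁, hT₂]⟩

/-- The normalizer of a closed subscheme is a closed subgroup scheme. -/
theorem exists_normalizer (y : Y ⟶ G) [IsClosedImmersion y.left] :
    ∃ (N : Over (Spec (CommRingCat.of k))) (_ : GrpObj N) (n : N ⟶ G), IsMonHom n ∧
      IsClosedImmersion n.left ∧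
      ∀ (T : Over (Spec (CommRingCat.of k))) (g : T ⟶ G), (∃ z : T ⟶ N, z ≫ n = g) ↔
        ∀ (T' : Over (Spec (CommRingCat.of k))) (t : T' ⟶ T) (x : T' ⟶ Y),
          (∃ x' : T' ⟶ Y, (t ≫ g) * (x ≫ y) * (t ≫ g)⁻¹ = x' ≫ y) ∧
          (∃ x' : T' ⟶ Y, (t ≫ g)⁻¹ * (x ≫ y) * (t ≫ g) = x' ≫ y) := by
  obtain ⟨N, n, hn, hN⟩ := exists_strict_transporter y y
  have hN' : ∀ (T : Over (Spec (CommRingCat.of k))) (g : T ⟶ G), (∃ z : T ⟶ N, z ≫ n = g) ↔
        ∀ (T' : Over (Spec (CommRingCat.of k))) (t : T' ⟶ T) (x : T' ⟶ Y),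
          (∃ x' : T' ⟶ Y, (t ≫ g) * (x ≫ y) * (t ≫ g)⁻¹ = x' ≫ y) ∧
          (∃ x' : T' ⟶ Y, (t ≫ g)⁻¹ * (x ≫ y) * (t ≫ g) = x' ≫ y) := by
    intro T g
    rw [hN]
    exact ⟨fun h T' t x => ⟨h.1 T' t x, h.2 T' t x⟩,
      fun h => ⟨fun T' t x => (h T' t x).1, fun T' t x => (h T' t x).2⟩⟩
  have hmono : Mono n := Groth.Agent.Sga3C.ClosedSub.mono_of_left n
  obtain ⟨hg, hmon⟩ := exists_grpObj_of_mem n
    ((hN' _ _).mpr fun T' t x => by
      have h1 : t ≫ η[G] = 1 := by rw [toUnit_unique t (toUnit _), Hom.one_def]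
      exact ⟨⟨x, by rw [h1]; group⟩, ⟨x, by rw [h1]; group⟩⟩)
    (fun {T} g g' hg hg' => (hN' _ _).mpr fun T' t x => by
      rw [hN'] at hg hg'
      obtain ⟨⟨x1, hx1⟩, -⟩ := hg' T' t x
      obtain ⟨⟨x2, hx2⟩, -⟩ := hg T' t x1
      obtain ⟨-, ⟨x3, hx3⟩⟩ := hg T' t x
      obtain ⟨-, ⟨x4, hx4⟩⟩ := hg' T' t x3
      refine ⟨⟨x2, ?_⟩, ⟨x4, ?_⟩⟩
      · rw [← hx2, ← hx1, comp_mul]; group
      · rw [← hx4, ← hx3, comp_mul]; group)
    (fun {T} g hg => (hN' _ _).mpr fun T' t x => by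
      rw [hN'] at hg
      obtain ⟨⟨x1, hx1⟩, ⟨x2, hx2⟩⟩ := hg T' t x
      refine ⟨⟨x2, ?_⟩, ⟨x1, ?_⟩⟩
      · rw [← hx2, GrpObj.comp_inv]; group
      · rw [← hx1, GrpObj.comp_inv]; group)
  exact ⟨N, hg, n, hmon, hn, hN'⟩

/-- The centralizer of a morphism is a closed subgroup scheme. -/
theorem exists_centralizer (u : X ⟶ G) :
    ∃ (Z : Over (Spec (CommRingCat.of k))) (_ : GrpObj Z) (z : Z ⟶ G), IsMonHom z ∧
      IsClosedImmersion z.left ∧
      ∀ (T : Over (Spec (CommRingCat.of k))) (g : T ⟶ G), (∃ w : T ⟶ Z, w ≫ z = g) ↔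
        ∀ (T' : Over (Spec (CommRingCat.of k))) (t : T' ⟶ T) (x : T' ⟶ X),
          (t ≫ g) * (x ≫ u) = (x ≫ u) * (t ≫ g) := by
  obtain ⟨Z, z, hz, hZ⟩ := exists_transporter_hom u u
  have hZ' : ∀ (T : Over (Spec (CommRingCat.of k))) (g : T ⟶ G), (∃ w : T ⟶ Z, w ≫ z = g) ↔
        ∀ (T' : Over (Spec (CommRingCat.of k))) (t : T' ⟶ T) (x : T' ⟶ X),
          (t ≫ g) * (x ≫ u) = (x ≫ u) * (t ≫ g) := by
    intro T g
    rw [hZ]
    refine forall_congr' fun T' => forall_congr' fun t => forall_congr' fun x => ?_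
    rw [mul_inv_eq_iff_eq_mul]
  have hmono : Mono z := Groth.Agent.Sga3C.ClosedSub.mono_of_left z
  obtain ⟨hg, hmon⟩ := exists_grpObj_of_mem z
    ((hZ' _ _).mpr fun T' t x => by
      have h1 : t ≫ η[G] = 1 := by rw [toUnit_unique t (toUnit _), Hom.one_def]
      rw [h1, _root_.one_mul, _root_.mul_one])
    (fun {T} g g' hg hg' => (hZ' _ _).mpr fun T' t x => by
      rw [hZ'] at hg hg'
      rw [comp_mul, _root_.mul_assoc, hg' T' t x, ← _root_.mul_assoc, hg T' t x, _root_.mul_assoc])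
    (fun {T} g hg => (hZ' _ _).mpr fun T' t x => by
      rw [hZ'] at hg
      rw [GrpObj.comp_inv, inv_mul_eq_iff_eq_mul, ← _root_.mul_assoc, hg T' t x,
        mul_inv_cancel_right])
  exact ⟨Z, hg, z, hmon, hz, hZ'⟩

end Field

end K205.Transporter
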