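import Groth.Agent.SGA3.K205.Transporter
import Groth.Agent.Sga3B.BcPts
import Groth.Agent.Sga3C.ActBase

/-!
# Essentially free morphisms and Weil restriction of closed subschemes of a base change

`exists_closed_bc`: for `σ : S ⟶ B` essentially free and `C` closed in `G_S`, the condition `g_S ∈ C`
on points `g` of `G` is represented by a closed subscheme of `G`.
-/

set_option autoImplicit false

universe v u

open CategoryTheory Limits MonoidalCategory CartesianMonoidalCategory MonObj GrpObj AlgebraicGeometry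

namespace K205.EssFreeBc

/-- Essentially free morphisms are stable under isomorphisms of the source. -/
theorem isEssentiallyFree_iso_comp {X' X S : Scheme.{u}} (e : X' ⟶ X) [IsIso e] (f : X ⟶ S)
    (hf : SGA3x.IsEssentiallyFree f) : SGA3x.IsEssentiallyFree (e ≫ f) := by
  intro s
  obtain ⟨U, hsU, hU, T, hT, h, hh, hhs, H⟩ := hf s
  refine ⟨U, hsU, hU, T, hT, h, hh, hhs, fun x => ?_⟩
  let q : pullback (e ≫ f) (h ≫ U.ι) ⟶ pullback f (h ≫ U.ι) :=
    pullback.lift (pullback.fst _ _ ≫ e) (pullback.snd _ _) (by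
      rw [Category.assoc, pullback.condition])
  have hq : IsPullback q (pullback.fst _ _) (pullback.fst f (h ≫ U.ι)) e := by
    refine IsPullback.of_right (t := (IsPullback.of_hasPullback f (h ≫ U.ι)).flip) ?_ 
      (pullback.lift_fst _ _ _)
    rw [show q ≫ pullback.snd f (h ≫ U.ι) = pullback.snd _ _ from pullback.lift_snd _ _ _]
    exact (IsPullback.of_hasPullback (e ≫ f) (h ≫ U.ι)).flip
  have hqi : IsIso q := hq.isIso_fst_of_isIso
  have hq2 : q ≫ pullback.snd f (h ≫ U.ι) = pullback.snd (e ≫ f) (h ≫ U.ι) := pullback.lift_snd _ _ _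
  obtain ⟨V, hxV, hV, hproj⟩ := H (q x)
  refine ⟨q ⁻¹ᵁ V, hxV, hV.preimage q, ?_⟩
  have h1 : (q ⁻¹ᵁ V).ι ≫ pullback.snd (e ≫ f) (h ≫ U.ι) =
      (q ∣_ V) ≫ V.ι ≫ pullback.snd f (h ≫ U.ι) := by
    rw [← hq2, morphismRestrict_ι_assoc]
  let := (V.ι ≫ pullback.snd f (h ≫ U.ι)).appTop.hom.toAlgebra
  let := ((q ⁻¹ᵁ V).ι ≫ pullback.snd (e ≫ f) (h ≫ U.ι)).appTop.hom.toAlgebra
  have hproj' : Module.Projective Γ(T, ⊤) Γ(↑V, ⊤) := hproj
  have hr : IsIso (q ∣_ V) := inferInstance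
  have hi : IsIso (q ∣_ V).appTop := inferInstanceAs (IsIso ((q ∣_ V).app ⊤))
  let φ : Γ(↑V, ⊤) ≃+* Γ(↑(q ⁻¹ᵁ V), ⊤) := (asIso (q ∣_ V).appTop).commRingCatIsoToRingEquiv
  have hφ : ∀ a : Γ(T, ⊤), φ (algebraMap Γ(T, ⊤) Γ(↑V, ⊤) a) =
      algebraMap Γ(T, ⊤) Γ(↑(q ⁻¹ᵁ V), ⊤) a := by
    intro a
    change (q ∣_ V).appTop.hom ((V.ι ≫ pullback.snd f (h ≫ U.ι)).appTop.hom a) =
      ((q ⁻¹ᵁ V).ι ≫ pullback.snd (e ≫ f) (h ≫ U.ι)).appTop.hom a
    rw [h1, Scheme.Hom.comp_appTop (q ∣_ V)]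
    rfl
  let ψ : Γ(↑V, ⊤) ≃ₐ[Γ(T, ⊤)] Γ(↑(q ⁻¹ᵁ V), ⊤) := AlgEquiv.ofRingEquiv (f := φ) hφ
  exact Module.Projective.of_equiv ψ.toLinearEquiv

/-- Essentially free morphisms are stable under base change. -/
theorem isEssentiallyFree_of_isPullback {P X S S' : Scheme.{u}} {a : P ⟶ X} {b : P ⟶ S'} {f : X ⟶ S}
    {g : S' ⟶ S} (h : IsPullback a b f g) (hf : SGA3x.IsEssentiallyFree f) :
    SGA3x.IsEssentiallyFree b := by
  rw [← h.isoPullback_hom_snd]
  exact isEssentiallyFree_iso_comp _ _ (K205.EssFree.isEssentiallyFree_pullback_snd f g hf)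

/-- Weil restriction of a closed subscheme of a base change. -/
theorem exists_closed_bc {B S : Scheme.{u}} (σ : S ⟶ B) (hσ : SGA3x.IsEssentiallyFree σ)
    {G : Over B} {C : Over S} (j : C ⟶ Red.bc σ G) [IsClosedImmersion j.left] :
    ∃ (T : Over B) (t : T ⟶ G), IsClosedImmersion t.left ∧
      ∀ (S' : Over B) (g : S' ⟶ G), (∃ z : S' ⟶ T, z ≫ t = g) ↔
        ∃ y : Red.bc σ S' ⟶ C, y ≫ j = (Over.pullback σ).map g := by
  have hf : SGA3x.IsEssentiallyFree (pullback.fst G.hom σ) :=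
    isEssentiallyFree_of_isPullback (IsPullback.of_hasPullback G.hom σ).flip hσ
  obtain ⟨T, t, ht, hT, -⟩ := Groth.Agent.S4101.result G.left (pullback G.hom σ) C.left
    (pullback.fst G.hom σ) hf j.left
  refine ⟨Over.mk (t ≫ G.hom), Over.homMk t, ht, fun S' g => ?_⟩
  have hsq := Groth.Agent.Sga3C.ActBase.isPullback_map_left σ g
  have h1 : (∃ z : S' ⟶ Over.mk (t ≫ G.hom), z ≫ Over.homMk t = g) ↔
      ∃ g' : S'.left ⟶ T, g' ≫ t = g.left := by
    constructor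
    · rintro ⟨z, rfl⟩
      exact ⟨z.left, rfl⟩
    · rintro ⟨g', hg'⟩
      refine ⟨Over.homMk g' ?_, ?_⟩
      · change g' ≫ t ≫ G.hom = _
        rw [reassoc_of% hg', Over.w]
      · ext; exact hg'
  rw [h1, hT, K205.Transporter.isIso_snd_iff]
  constructor
  · rintro ⟨l, hl⟩
    refine ⟨Over.homMk (hsq.isoPullback.hom ≫ l) ?_, ?_⟩
    · rw [← Over.w j, Category.assoc, reassoc_of% hl]
      change hsq.isoPullback.hom ≫ pullback.fst _ _ ≫ _ = _
      rw [hsq.isoPullback_hom_fst_assoc]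
      exact Over.w ((Over.pullback σ).map g)
    · ext
      change (hsq.isoPullback.hom ≫ l) ≫ j.left = _
      rw [Category.assoc, hl]
      exact hsq.isoPullback_hom_fst
  · rintro ⟨y, hy⟩
    refine ⟨hsq.isoPullback.inv ≫ y.left, ?_⟩
    rw [Category.assoc, ← Over.comp_left, hy]
    exact hsq.isoPullback_inv_fst

end K205.EssFreeBc
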