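import Groth.Agent.Sga3C.HomogConn
import Mathlib.AlgebraicGeometry.Morphisms.Integral

/-!
# Irreducible components of homogeneous spaces: base change of components with a rational point,
# and the saturation `C⁰ · U` over an arbitrary field
-/

set_option autoImplicit false

universe u

open CategoryTheory Limits MonoidalCategory CartesianMonoidalCategory MonObj GrpObj AlgebraicGeometry

namespace K205.HomogComp

open Groth.Agent.Sga3C.IrrComp Groth.Agent.Sga3C.HomogIrr Groth.Agent.Sga3C.ActBase
  Groth.Agent.Sga3C.GenPts Groth.Agent.Sga3C.HomogConn Groth.Agent.Sga3C.Transl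

/-- Points over a rational point are unique after a base change to a field. -/
theorem eq_of_fst_eq_rational {k : Type u} [Field k] {X : Over (Spec (CommRingCat.of k))}
    (x : 𝟙_ (Over (Spec (CommRingCat.of k))) ⟶ X) (pt : (𝟙_ (Over (Spec (CommRingCat.of k)))).left)
    {K : Type u} [Field K] (t : Spec (CommRingCat.of K) ⟶ Spec (CommRingCat.of k))
    (y y' : ↥(pullback X.hom t)) (hy : pullback.fst X.hom t y = x.left pt)
    (hy' : pullback.fst X.hom t y' = x.left pt) : y = y' := by
  have h := isPullback_map_left t x
  obtain ⟨p, -, hp⟩ := isPullback_surj h.flip pt y hy.symm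
  obtain ⟨p', -, hp'⟩ := isPullback_surj h.flip pt y' hy'.symm
  have hs : Subsingleton ↥((Over.pullback t).obj (𝟙_ (Over (Spec (CommRingCat.of k))))).left := by
    have e : pullback (𝟙_ (Over (Spec (CommRingCat.of k)))).hom t ≅ Spec (CommRingCat.of K) :=
      asIso (pullback.snd (𝟙 (Spec (CommRingCat.of k))) t)
    have : Subsingleton ↥(Spec (CommRingCat.of K)) := inferInstanceAs (Subsingleton (PrimeSpectrum K))
    exact e.hom.homeomorph.injective.subsingleton
  rw [← hp, ← hp', Subsingleton.elim p p']

theorem surjective_snd_field {k : Type u} [Field k]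
    {K : Type u} [Field K] (t : Spec (CommRingCat.of K) ⟶ Spec (CommRingCat.of k)) :
    Surjective t := by
  constructor
  intro s
  obtain ⟨y⟩ : Nonempty (Spec (CommRingCat.of K)) := inferInstance
  exact ⟨y, Subsingleton.elim (α := PrimeSpectrum k) _ _⟩

/-- The preimage of an irreducible component containing a rational point under an algebraic extension of
the base field is the irreducible component of the point above. -/
theorem preimage_eq_of_integral {k : Type u} [Field k] {X : Over (Spec (CommRingCat.of k))}
    (hX : UniqueComp X.left)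
    (x : 𝟙_ (Over (Spec (CommRingCat.of k))) ⟶ X) (pt : (𝟙_ (Over (Spec (CommRingCat.of k)))).left)
    {K : Type u} [Field K] (t : Spec (CommRingCat.of K) ⟶ Spec (CommRingCat.of k)) [IsIntegralHom t]
    (hX' : UniqueComp ↥(pullback X.hom t))
    {C : Set X.left} (hC : C ∈ irreducibleComponents X.left) (hx : x.left pt ∈ C)
    {D : Set ↥(pullback X.hom t)} (hD : D ∈ irreducibleComponents ↥(pullback X.hom t))
    {y₀ : ↥(pullback X.hom t)} (hy₀ : pullback.fst X.hom t y₀ = x.left pt) (hy₀D : y₀ ∈ D) :
    pullback.fst X.hom t ⁻¹' C = D := by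
  have hgen : GeneralizingMap (pullback.fst X.hom t) := Flat.generalizingMap (pullback.fst X.hom t)
  have hclosed : IsClosedMap (pullback.fst X.hom t) := (pullback.fst X.hom t).isClosedMap
  apply Set.Subset.antisymm
  · intro y hy
    obtain ⟨γ, hγ⟩ := exists_isGenericPoint hC
    obtain ⟨y', hy'1, hy'2⟩ := hgen (hγ.specializes hy)
    have hcl : IsClosed (pullback.fst X.hom t '' closure {y'}) := hclosed _ isClosed_closure
    have h1 : x.left pt ∈ pullback.fst X.hom t '' closure {y'} := by
      have h2 : γ ∈ pullback.fst X.hom t '' closure {y'} := ⟨y', subset_closure rfl, hy'2⟩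
      exact (hγ.specializes hx).mem_closed hcl h2
    obtain ⟨w, hw, hw'⟩ := h1
    obtain rfl := eq_of_fst_eq_rational x pt t w y₀ hw' hy₀
    obtain ⟨D', hD', hD'1⟩ := exists_mem_irreducibleComponents_subset_of_isIrreducible
      (closure {y'}) isIrreducible_singleton.closure
    obtain rfl := hX' w D' D hD' hD (hD'1 hw) hy₀D
    exact hD'1 hy'1.mem_closure
  · intro y hy
    have hirr : IsIrreducible (pullback.fst X.hom t '' D) :=
      hD.1.image _ (pullback.fst X.hom t).continuous.continuousOn
    obtain ⟨C', hC', hC'1⟩ := exists_mem_irreducibleComponents_subset_of_isIrreducible _ hirr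
    obtain rfl := hX (x.left pt) C' C hC' hC (hC'1 ⟨y₀, hy₀D, hy₀⟩) hx
    exact hC'1 ⟨y, hy, rfl⟩

/-- Existence of a point above a rational point. -/
theorem exists_fst_eq {k : Type u} [Field k] {X : Over (Spec (CommRingCat.of k))}
    (z : X.left) {K : Type u} [Field K] (t : Spec (CommRingCat.of K) ⟶ Spec (CommRingCat.of k)) :
    ∃ y : ↥(pullback X.hom t), pullback.fst X.hom t y = z := by
  have : Surjective t := surjective_snd_field t
  exact (pullback.fst X.hom t).surjective z

/-- The component of a rational point of a scheme whose base changes have unique irreducible components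
is geometrically irreducible. -/
theorem isIrreducible_preimage {k : Type u} [Field k] {X : Over (Spec (CommRingCat.of k))}
    (hX : ∀ (K : Type u) [Field K] (t : Spec (CommRingCat.of K) ⟶ Spec (CommRingCat.of k)),
      UniqueComp ↥(pullback X.hom t))
    (hXk : UniqueComp X.left)
    (x : 𝟙_ (Over (Spec (CommRingCat.of k))) ⟶ X) (pt : (𝟙_ (Over (Spec (CommRingCat.of k)))).left)
    {C : Set X.left} (hC : C ∈ irreducibleComponents X.left) (hx : x.left pt ∈ C)
    (K : Type u) [Field K] [Algebra k K] :
    IsIrreducible (pullback.fst X.hom (Spec.map (CommRingCat.ofHom (algebraMap k K))) ⁻¹' C) := by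
  let kb := AlgebraicClosure k
  let L := AlgebraicClosure K
  let t : Spec (CommRingCat.of kb) ⟶ Spec (CommRingCat.of k) :=
    Spec.map (CommRingCat.ofHom (algebraMap k kb))
  have ht : IsIntegralHom t := by
    rw [IsIntegralHom.SpecMap_iff]
    exact algebraMap_isIntegral_iff.mpr inferInstance
  let φ : kb →ₐ[k] L := IsAlgClosed.lift
  let tL : Spec (CommRingCat.of L) ⟶ Spec (CommRingCat.of kb) :=
    Spec.map (CommRingCat.ofHom φ.toRingHom)
  let tK : Spec (CommRingCat.of K) ⟶ Spec (CommRingCat.of k) :=
    Spec.map (CommRingCat.ofHom (algebraMap k K))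
  let tLK : Spec (CommRingCat.of L) ⟶ Spec (CommRingCat.of K) :=
    Spec.map (CommRingCat.ofHom (algebraMap K L))
  have hcomm : tL ≫ t = tLK ≫ tK := by
    simp only [tL, t, tLK, tK, ← Spec.map_comp, ← CommRingCat.ofHom_comp]
    congr 2
    rw [← IsScalarTower.algebraMap_eq k K L]
    exact φ.comp_algebraMap
  obtain ⟨y₀, hy₀⟩ := exists_fst_eq (x.left pt) t
  have h1 := preimage_eq_of_integral hXk x pt t (hX _ t) hC hx
    (irreducibleComponent_mem_irreducibleComponents y₀) hy₀ mem_irreducibleComponent
  have h2 : IsIrreducible (pullback.fst X.hom t ⁻¹' C) := by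
    rw [h1]; exact isIrreducible_irreducibleComponent
  -- the map `X_L → X_kb`
  let f1 : pullback X.hom (tL ≫ t) ⟶ pullback X.hom t :=
    pullback.lift (pullback.fst _ _) (pullback.snd _ _ ≫ tL) (by
      rw [Category.assoc, pullback.condition])
  have hf1 : IsPullback f1 (pullback.snd X.hom (tL ≫ t)) (pullback.snd X.hom t) tL := by
    refine IsPullback.of_right (t := (IsPullback.of_hasPullback X.hom t)) ?_ ?_
    · have : f1 ≫ pullback.fst X.hom t = pullback.fst X.hom (tL ≫ t) := pullback.lift_fst _ _ _
      rw [this]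
      exact (IsPullback.of_hasPullback X.hom (tL ≫ t))
    · exact pullback.lift_snd _ _ _
  have hgi : GeometricallyIrreducible tL := by
    have : IrreducibleSpace ↥(Spec (CommRingCat.of L)) := inferInstance
    exact Groth.Agent.Fdesc.GeomAlgClosed.geometricallyIrreducible_of_irreducibleSpace tL
  have hgf : GeometricallyIrreducible f1 := MorphismProperty.of_isPullback hf1.flip hgi
  have hof : UniversallyOpen f1 := by
    have : UniversallyOpen tL := inferInstance
    exact MorphismProperty.of_isPullback hf1.flip this
  have h3 : IsIrreducible (f1 ⁻¹' (pullback.fst X.hom t ⁻¹' C)) :=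
    f1.isIrreducible_preimage f1.isOpenMap h2
  let f2 : pullback X.hom (tL ≫ t) ⟶ pullback X.hom tK :=
    pullback.lift (pullback.fst _ _) (pullback.snd _ _ ≫ tLK) (by
      rw [Category.assoc, ← hcomm, pullback.condition])
  have hf2 : IsPullback f2 (pullback.snd X.hom (tL ≫ t)) (pullback.snd X.hom tK) tLK := by
    refine IsPullback.of_right (t := (IsPullback.of_hasPullback X.hom tK)) ?_ ?_
    · have : f2 ≫ pullback.fst X.hom tK = pullback.fst X.hom (tL ≫ t) := pullback.lift_fst _ _ _
      rw [this, ← hcomm]
      exact (IsPullback.of_hasPullback X.hom (tL ≫ t))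
    · exact pullback.lift_snd _ _ _
  have hsf : Surjective f2 := by
    have : Surjective tLK := surjective_snd_field tLK
    exact MorphismProperty.of_isPullback hf2.flip this
  have h4 : pullback.fst X.hom tK ⁻¹' C = f2 '' (f1 ⁻¹' (pullback.fst X.hom t ⁻¹' C)) := by
    have h5 : f1 ⁻¹' (pullback.fst X.hom t ⁻¹' C) = f2 ⁻¹' (pullback.fst X.hom tK ⁻¹' C) := by
      rw [← Set.preimage_comp, ← Set.preimage_comp]
      have h6 : f1 ≫ pullback.fst X.hom t = f2 ≫ pullback.fst X.hom tK := by
        rw [pullback.lift_fst, pullback.lift_fst]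
      have h7 : (pullback.fst X.hom t : _ → _) ∘ f1 = (pullback.fst X.hom tK : _ → _) ∘ f2 := by
        funext z
        have := congrArg (fun f : pullback X.hom (tL ≫ t) ⟶ X.left => f z) h6
        simpa using this
      rw [h7]
    rw [h5, Set.image_preimage_eq _ f2.surjective]
  change IsIrreducible (pullback.fst X.hom tK ⁻¹' C)
  rw [h4]
  exact h3.image _ f2.continuous.continuousOn

/-- Unique irreducible components of base changes of homogeneous spaces. -/
theorem uniqueComp_pullback {k : Type u} [Field k] {G X : Over (Spec (CommRingCat.of k))} [GrpObj G]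
    (a : AlgGrp.Action G X) (hΦ : Surjective (lift a.act (snd G X)).left)
    (K : Type u) [Field K] (t : Spec (CommRingCat.of K) ⟶ Spec (CommRingCat.of k)) :
    UniqueComp ↥(pullback X.hom t) := by
  let := Functor.grpObjObj (F := Over.pullback t) (G := G)
  exact (main (baseAct t a) (surjective_baseAct t a hΦ)).1

section Sat

variable {k : Type u} [Field k] {G X : Over (Spec (CommRingCat.of k))} [GrpObj G]
  (a : AlgGrp.Action G X)

theorem sat_eq_field (hΦ : Surjective (lift a.act (snd G X)).left)
    {C0 : Set G.left} (hC0 : C0 ∈ irreducibleComponents G.left)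
    (pt : (𝟙_ (Over (Spec (CommRingCat.of k)))).left) (he : η[G].left pt ∈ C0) (U : X.left.Opens) :
    sat (U : Set X.left) = a.act.left '' ((fst G X).left ⁻¹' C0 ∩ (snd G X).left ⁻¹' U) := by
  let K := AlgebraicClosure k
  let t : Spec (CommRingCat.of K) ⟶ Spec (CommRingCat.of k) :=
    Spec.map (CommRingCat.ofHom (algebraMap k K))
  have ht : IsIntegralHom t := by
    rw [IsIntegralHom.SpecMap_iff]
    exact algebraMap_isIntegral_iff.mpr inferInstance
  let := Functor.grpObjObj (F := Over.pullback t) (G := G)
  let G' := (Over.pullback t).obj G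
  let X' := (Over.pullback t).obj X
  let a' : AlgGrp.Action G' X' := baseAct t a
  have hΦ' : Surjective (lift a'.act (snd G' X')).left := surjective_baseAct t a hΦ
  let π : X'.left ⟶ X.left := pullback.fst X.hom t
  let πG : G'.left ⟶ G.left := pullback.fst G.hom t
  have hπ : Function.Surjective π := (pullback.fst X.hom t).surjective
  have hπ' : GeneralizingMap π := Flat.generalizingMap (pullback.fst X.hom t)
  obtain ⟨pt'⟩ : Nonempty (𝟙_ (Over (Spec (CommRingCat.of K)))).left :=
    inferInstanceAs (Nonempty (Spec (CommRingCat.of K)))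
  let N := irreducibleComponent (η[G'].left pt')
  have hN : N ∈ irreducibleComponents G'.left := irreducibleComponent_mem_irreducibleComponents _
  have hN1 : ∀ s, η[G'].left s ∈ N := by
    intro s
    have : s = pt' := Subsingleton.elim (α := Spec (CommRingCat.of K)) _ _
    rw [this]
    exact mem_irreducibleComponent
  -- `N` is the preimage of `C0`
  have hη : πG (η[G'].left pt') = η[G].left pt := by
    have h1 : η[G'] = Functor.LaxMonoidal.ε (Over.pullback t) ≫ (Over.pullback t).map η[G] := rfl
    rw [h1, comp_left_apply]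
    have h2 := (isPullback_map_left t (η[G] : 𝟙_ (Over (Spec (CommRingCat.of k))) ⟶ G)).w
    have h3 := congrArg (fun f => f.base
      ((Functor.LaxMonoidal.ε (Over.pullback t)).left pt')) h2
    simp only [Scheme.Hom.comp_base, TopCat.comp_app] at h3
    refine h3.trans ?_
    congr 1
    exact Subsingleton.elim (α := Spec (CommRingCat.of k)) _ _
  have hNC : πG ⁻¹' C0 = N :=
    preimage_eq_of_integral (main (regular G) (surjective_regular G)).1 η[G] pt t
      (uniqueComp_pullback (regular G) (surjective_regular G) K t) hC0 he hN hη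
      mem_irreducibleComponent
  rw [sat_eq_image π hπ hπ' U U.isOpen,
      sat_eq a' hΦ' hN hN1 _ (U.isOpen.preimage π.continuous), ← hNC]
  -- compare images
  let m : G' ⊗ X' ⟶ (Over.pullback t).obj (G ⊗ X) := Functor.LaxMonoidal.μ (Over.pullback t) G X
  have hm : IsIso m := inferInstance
  let ρ : (G' ⊗ X').left ⟶ (G ⊗ X).left := m.left ≫ pullback.fst (G ⊗ X).hom t
  have hm' : IsIso m.left := inferInstanceAs (IsIso ((Over.forget _).map m))
  have hρ : Function.Surjective ρ := by
    have h1 : Surjective (pullback.fst (G ⊗ X).hom t) := by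
      have : Surjective t := surjective_snd_field t
      infer_instance
    have h2 : Surjective ρ := inferInstanceAs (Surjective (m.left ≫ pullback.fst (G ⊗ X).hom t))
    exact h2.surj
  have hact : a'.act.left ≫ π = ρ ≫ a.act.left := by
    change (m ≫ (Over.pullback t).map a.act).left ≫ π = _
    rw [Over.comp_left, Category.assoc, (isPullback_map_left t a.act).w, Category.assoc]
  have hfst : (fst G' X').left ≫ πG = ρ ≫ (fst G X).left := by
    have h1 : fst G' X' = m ≫ (Over.pullback t).map (fst G X) :=
      (Functor.Monoidal.μ_fst (Over.pullback t) G X).symm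
    rw [h1, Over.comp_left, Category.assoc, (isPullback_map_left t (fst G X)).w, Category.assoc]
  have hsnd : (snd G' X').left ≫ π = ρ ≫ (snd G X).left := by
    have h1 : snd G' X' = m ≫ (Over.pullback t).map (snd G X) :=
      (Functor.Monoidal.μ_snd (Over.pullback t) G X).symm
    rw [h1, Over.comp_left, Category.assoc, (isPullback_map_left t (snd G X)).w, Category.assoc]
  ext x
  constructor
  · rintro ⟨_, ⟨w, ⟨hw1, hw2⟩, rfl⟩, rfl⟩
    refine ⟨ρ w, ⟨?_, ?_⟩, ?_⟩
    · have := congrArg (fun f => f.base w) hfst
      simp only [Scheme.Hom.comp_base, TopCat.comp_app] at this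
      rw [Set.mem_preimage] at hw1 ⊢
      exact this ▸ hw1
    · have := congrArg (fun f => f.base w) hsnd
      simp only [Scheme.Hom.comp_base, TopCat.comp_app] at this
      rw [Set.mem_preimage] at hw2 ⊢
      exact this ▸ hw2
    · have := congrArg (fun f => f.base w) hact
      simp only [Scheme.Hom.comp_base, TopCat.comp_app] at this
      exact this.symm
  · rintro ⟨v, ⟨hv1, hv2⟩, rfl⟩
    obtain ⟨w, rfl⟩ := hρ v
    refine ⟨a'.act.left w, ⟨w, ⟨?_, ?_⟩, rfl⟩, ?_⟩
    · have := congrArg (fun f => f.base w) hfst
      simp only [Scheme.Hom.comp_base, TopCat.comp_app] at this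
      rw [Set.mem_preimage] at hv1 ⊢
      change πG.base ((fst G' X').left.base w) ∈ C0
      rw [this]; exact hv1
    · have := congrArg (fun f => f.base w) hsnd
      simp only [Scheme.Hom.comp_base, TopCat.comp_app] at this
      rw [Set.mem_preimage] at hv2 ⊢
      change π.base ((snd G' X').left.base w) ∈ U
      rw [this]; exact hv2
    · have := congrArg (fun f => f.base w) hact
      simp only [Scheme.Hom.comp_base, TopCat.comp_app] at this
      exact this

/-- `sat U` is the union of the irreducible components with generic point in `U`. -/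
theorem sat_eq_sUnion {Y : Type*} [TopologicalSpace Y] [QuasiSober Y] {U : Set Y} (hU : IsOpen U) :
    sat U = ⋃₀ {Z : Set Y | Z ∈ irreducibleComponents Y ∧ ∃ ξ ∈ U, closure {ξ} = Z} := by
  ext x
  constructor
  · rintro ⟨Z, hZ, hx, hZU⟩
    obtain ⟨ξ, hξ⟩ := exists_isGenericPoint hZ
    exact ⟨Z, ⟨hZ, ξ, (hξ.mem_open_set_iff hU).mpr hZU, hξ.def⟩, hx⟩
  · rintro ⟨Z, ⟨hZ, ξ, hξU, hξ⟩, hx⟩
    exact ⟨Z, hZ, hx, ξ, hξ ▸ subset_closure rfl, hξU⟩

/-- The saturation of a retrocompact open subset of a scheme is its closure. -/
theorem sat_eq_closure {Y : Scheme.{u}} (U : Y.Opens) (hU : IsRetrocompact (U : Set Y)) :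
    sat (U : Set Y) = closure (U : Set Y) := by
  apply Set.Subset.antisymm
  · rintro x ⟨Z, hZ, hx, hZU⟩
    exact closure_mono Set.inter_subset_right
      (subset_closure_inter_of_isPreirreducible_of_isOpen hZ.1.2 U.isOpen hZU hx)
  · intro y hy
    have : QuasiCompact U.ι := by
      refine ⟨fun V hV hV' => ?_⟩
      have h1 := hU hV' hV
      rw [U.ι.isOpenEmbedding.isInducing.isCompact_iff, Set.image_preimage_eq_inter_range,
        Scheme.Opens.range_ι, Set.inter_comm]
      exact h1
    obtain ⟨u, hu⟩ := exists_specializes_of_mem_closure_range U.ι y (by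
      rw [Scheme.Opens.range_ι]; exact hy)
    obtain ⟨Z, hZ, hZ'⟩ := exists_mem_irreducibleComponents_subset_of_isIrreducible
      (closure {U.ι u}) isIrreducible_singleton.closure
    exact ⟨Z, hZ, hZ' hu.mem_closure, U.ι u, hZ' (subset_closure rfl), u.2⟩

end Sat

end K205.HomogComp
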