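import Groth.Agent.Sga3C.QuotGrpRel
import Groth.Agent.Sga3C.ActBase

/-!
# Base change of the relation of left translations and of its quotient
-/

set_option autoImplicit false
universe v u
open CategoryTheory MonoidalCategory CartesianMonoidalCategory MonObj GrpObj AlgebraicGeometry Limits
open CategoryTheory.Functor.LaxMonoidal

namespace K205.QuotBc

open Groth.Agent.Sga3C.ActBase Groth.Agent.Sga3C.QuotGrpRel Groth.Agent.Sga3C.QuotRel

variable {S S' : Scheme.{u}} (t : S' ⟶ S) {F G X : Over S} [GrpObj G]

/-- The relation of left translations commutes with base change. -/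
theorem mul_bc (u : F ⟶ G) :
    letI := Functor.grpObjObj (F := Over.pullback t) (G := G)
    (((Over.pullback t).map u ▷ (Over.pullback t).obj G) ≫ μ[(Over.pullback t).obj G]) =
      Functor.LaxMonoidal.μ (Over.pullback t) F G ≫ (Over.pullback t).map ((u ▷ G) ≫ μ[G]) := by
  let := Functor.grpObjObj (F := Over.pullback t) (G := G)
  rw [Functor.obj.μ_def, Functor.LaxMonoidal.μ_natural_left_assoc, ← Functor.map_comp]

/-- The quotient square commutes with base change. -/
theorem isPullback_bc (u : F ⟶ G) (p : G ⟶ X) (hp : IsPullback ((u ▷ G) ≫ μ[G]) (snd F G) p p) :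
    letI := Functor.grpObjObj (F := Over.pullback t) (G := G)
    IsPullback (((Over.pullback t).map u ▷ (Over.pullback t).obj G) ≫ μ[(Over.pullback t).obj G])
      (snd ((Over.pullback t).obj F) ((Over.pullback t).obj G))
      ((Over.pullback t).map p) ((Over.pullback t).map p) := by
  let := Functor.grpObjObj (F := Over.pullback t) (G := G)
  have h1 := hp.map (Over.pullback t)
  have hi : IsIso (Functor.LaxMonoidal.μ (Over.pullback t) F G) := inferInstance
  refine IsPullback.of_iso h1 (asIso (Functor.LaxMonoidal.μ (Over.pullback t) F G)).symm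
    (Iso.refl _) (Iso.refl _) (Iso.refl _) ?_ ?_ (by simp) (by simp)
  · rw [mul_bc]
    simp
  · rw [Iso.refl_hom, Category.comp_id, Iso.symm_hom, asIso_inv, IsIso.eq_inv_comp]
    exact Functor.Monoidal.μ_snd (Over.pullback t) F G

/-- The map from the base change of the relation to the relation. -/
noncomputable def ρ (F G : Over S) : ((Over.pullback t).obj F ⊗ (Over.pullback t).obj G).left ⟶ (F ⊗ G).left :=
  (Functor.LaxMonoidal.μ (Over.pullback t) F G).left ≫ pullback.fst (F ⊗ G).hom t

theorem isPullback_ρ (F G : Over S) :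
    IsPullback (ρ t F G) (snd ((Over.pullback t).obj F) ((Over.pullback t).obj G)).left
      (snd F G).left (pullback.fst G.hom t) := by
  have h1 := (isPullback_map_left t (snd F G)).flip
  have hi : IsIso (Functor.LaxMonoidal.μ (Over.pullback t) F G) := inferInstance
  have hi' : IsIso (Functor.LaxMonoidal.μ (Over.pullback t) F G).left :=
    inferInstanceAs (IsIso ((Over.forget S').map (Functor.LaxMonoidal.μ (Over.pullback t) F G)))
  refine IsPullback.of_iso h1 (asIso (Functor.LaxMonoidal.μ (Over.pullback t) F G).left).symm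
    (Iso.refl _) (Iso.refl _) (Iso.refl _) ?_ ?_ (by simp) (by simp)
  · rw [Iso.refl_hom, Category.comp_id, Iso.symm_hom, asIso_inv, IsIso.eq_inv_comp]
    rfl
  · rw [Iso.refl_hom, Category.comp_id, Iso.symm_hom, asIso_inv, IsIso.eq_inv_comp, ← Over.comp_left]
    exact congrArg (fun z => Over.Hom.left z) (Functor.Monoidal.μ_snd (Over.pullback t) F G)

theorem ρ_tt (u : F ⟶ G) :
    letI := Functor.grpObjObj (F := Over.pullback t) (G := G)
    ρ t F G ≫ tt u = tt ((Over.pullback t).map u) ≫ pullback.fst G.hom t := by
  let := Functor.grpObjObj (F := Over.pullback t) (G := G)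
  have h : tt ((Over.pullback t).map u) = ((Functor.LaxMonoidal.μ (Over.pullback t) F G) ≫
      (Over.pullback t).map ((u ▷ G) ≫ μ[G])).left := congrArg (fun z => Over.Hom.left z) (mul_bc t u)
  rw [h, Over.comp_left, Category.assoc, (isPullback_map_left t ((u ▷ G) ≫ μ[G])).w, ρ, Category.assoc]

/-- The relation on the base change, for `S' ⟶ S` a monomorphism. -/
theorem rel_bc_iff [Mono t] (u : F ⟶ G) {T : Scheme.{u}} (a b : T ⟶ ((Over.pullback t).obj G).left) :
    letI := Functor.grpObjObj (F := Over.pullback t) (G := G)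
    Rel (tt ((Over.pullback t).map u)) (ss (F := (Over.pullback t).obj F) (G := (Over.pullback t).obj G)) a b ↔
      Rel (tt u) (ss (F := F) (G := G)) (a ≫ pullback.fst G.hom t) (b ≫ pullback.fst G.hom t) := by
  let := Functor.grpObjObj (F := Over.pullback t) (G := G)
  have hm : Mono (pullback.fst G.hom t) := inferInstance
  constructor
  · rintro ⟨r, rfl, rfl⟩
    refine ⟨r ≫ ρ t F G, ?_, ?_⟩
    · rw [Category.assoc, ρ_tt, Category.assoc]
    · rw [Category.assoc, (isPullback_ρ t F G).w, Category.assoc]
  · rintro ⟨r, h1, h2⟩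
    refine ⟨(isPullback_ρ t F G).lift r b h2, ?_, ?_⟩
    · rw [← cancel_mono (pullback.fst G.hom t), Category.assoc, ← ρ_tt, ← Category.assoc,
        (isPullback_ρ t F G).lift_fst, h1]
    · exact (isPullback_ρ t F G).lift_snd r b h2

end K205.QuotBc
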