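import Groth.Agent.Sga3C.QuotProps

/-!
# The right action of `G` on the quotient `F\G`, as a left action
-/

set_option autoImplicit false
universe v u
open CategoryTheory MonoidalCategory CartesianMonoidalCategory MonObj GrpObj AlgebraicGeometry Limits
open Groth.Agent.Sga3C.QuotGrpObj Groth.Agent.Sga3C.QuotProps

namespace K205.QuotAct

variable {S : Scheme.{u}} {F G X : Over S} [GrpObj F] [GrpObj G]

/-- `(g, h) ↦ h g⁻¹`. -/
noncomputable abbrev rdiv (G : Over S) [GrpObj G] : G ⊗ G ⟶ G := snd G G * (fst G G)⁻¹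

/-- **The action on the quotient**: `g · p(h) = p(h g⁻¹)`, and it is transitive. -/
theorem exists_action (u : F ⟶ G) [IsMonHom u] (p : G ⟶ X) [Flat p.left]
    [Surjective p.left] [LocallyOfFinitePresentation p.left]
    (hp : IsPullback ((u ▷ G) ≫ μ[G]) (snd F G) p p) :
    ∃ a : AlgGrp.Action G X, (G ◁ p) ≫ a.act = rdiv G ≫ p ∧
      Surjective (lift a.act (snd G X)).left := by
  have hw : (u ▷ G) ≫ μ[G] ≫ p = snd F G ≫ p := by rw [← Category.assoc]; exact hp.w
  have fl : ∀ (Y : Over S), Flat (Y ◁ p).left := fun Y => by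
    rw [← id_tensorHom]
    exact tensorHom_left_of (@Flat) _ p (by rw [Over.id_left]; infer_instance) ‹_›
  have sl : ∀ (Y : Over S), Surjective (Y ◁ p).left := fun Y => by
    rw [← id_tensorHom]
    exact tensorHom_left_of (@Surjective) _ p (by rw [Over.id_left]; infer_instance) ‹_›
  have ll : ∀ (Y : Over S), LocallyOfFinitePresentation (Y ◁ p).left := fun Y => by
    rw [← id_tensorHom]
    exact tensorHom_left_of (@LocallyOfFinitePresentation) _ p (by rw [Over.id_left]; infer_instance) ‹_›
  have ep : ∀ (Y : Over S), Epi (Y ◁ p) := fun Y => epi_of_flat_surjective (Y ◁ p)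
  obtain ⟨a, ha⟩ := exists_desc (G ◁ p) (rdiv G ≫ p) (by
    intro T x y hxy
    have e1 : x ≫ fst G G = y ≫ fst G G := by
      have := congrArg (fun z => z ≫ fst G X) hxy
      simpa using this
    have e2 : (x ≫ snd G G) ≫ p = (y ≫ snd G G) ≫ p := by
      have := congrArg (fun z => z ≫ snd G X) hxy
      simpa using this
    obtain ⟨c, h⟩ := exists_fac_of_comp_eq hp _ _ e2
    rw [← Category.assoc, ← Category.assoc, comp_mul, comp_mul, comp_inv, comp_inv, e1, h,
      _root_.mul_assoc, mul_comp_eq hw])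
  have key : ∀ (T : Over S) (g h : T ⟶ G), lift g (h ≫ p) ≫ a = (h * g⁻¹) ≫ p := by
    intro T g h
    have h1 : lift g (h ≫ p) = lift g h ≫ (G ◁ p) := by simp
    rw [h1, Category.assoc, ha, ← Category.assoc, comp_mul, comp_inv, lift_fst, lift_snd]
  refine ⟨{ act := a, one_act := ?_, mul_act := ?_ }, ha, ?_⟩
  · have := ep (𝟙_ (Over S))
    rw [← cancel_epi (𝟙_ (Over S) ◁ p)]
    have h1 : (𝟙_ (Over S) ◁ p) ≫ (η[G] ▷ X) = lift (toUnit _ ≫ η[G]) (snd _ G ≫ p) := by
      ext1
      · rw [Category.assoc, whiskerRight_fst, whiskerLeft_fst_assoc, lift_fst]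
        congr 1
      · rw [Category.assoc, whiskerRight_snd, whiskerLeft_snd, lift_snd]
    rw [← Category.assoc, h1, key, ← Hom.one_def, inv_one, _root_.mul_one, leftUnitor_hom,
      whiskerLeft_snd]
  · have := ep (G ⊗ G)
    rw [← cancel_epi ((G ⊗ G) ◁ p)]
    have h1 : ((G ⊗ G) ◁ p) ≫ (μ[G] ▷ X) = lift (fst (G ⊗ G) G ≫ μ[G]) (snd (G ⊗ G) G ≫ p) := by
      ext1
      · rw [Category.assoc, whiskerRight_fst, whiskerLeft_fst_assoc, lift_fst]
      · rw [Category.assoc, whiskerRight_snd, whiskerLeft_snd, lift_snd]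
    have h2 : ((G ⊗ G) ◁ p) ≫ (α_ G G X).hom ≫ (G ◁ a) =
        lift (fst (G ⊗ G) G ≫ fst G G) (lift (fst (G ⊗ G) G ≫ snd G G) (snd (G ⊗ G) G ≫ p) ≫ a) := by
      ext1
      · simp
      · simp only [Category.assoc, whiskerLeft_snd, lift_snd]
        simp only [← Category.assoc]
        congr 1
        ext1 <;> simp
    have h3 : ((G ⊗ G) ◁ p) ≫ (α_ G G X).hom ≫ (G ◁ a) ≫ a = (((G ⊗ G) ◁ p) ≫ (α_ G G X).hom ≫ (G ◁ a)) ≫ a := by
      simp only [Category.assoc]
    rw [← Category.assoc, h1, key, h3, h2, key, key]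
    congr 1
    have h4 : μ[G] = fst G G * snd G G := by
      rw [Hom.mul_def]; simp
    rw [h4, comp_mul]
    group
  · -- transitivity
    let e : G ⊗ G ≅ G ⊗ G :=
      { hom := lift (rdiv G) (snd G G)
        inv := lift ((fst G G)⁻¹ * snd G G) (snd G G)
        hom_inv_id := by
          ext1
          · simp only [comp_lift, lift_fst, comp_mul, comp_inv, lift_snd, Category.id_comp]
            group
          · simp
        inv_hom_id := by
          ext1
          · simp only [comp_lift, lift_fst, comp_mul, comp_inv, lift_snd, Category.id_comp]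
            group
          · simp }
    have h1 : (G ◁ p) ≫ lift a (snd G X) = e.hom ≫ (p ⊗ₘ p) := by
      ext1
      · rw [Category.assoc, lift_fst, ha]
        simp [e]
      · simp [e]
    have s1 : Surjective ((G ◁ p) ≫ lift a (snd G X)).left := by
      rw [h1, Over.comp_left]
      have : IsIso e.hom := Iso.isIso_hom e
      have : IsIso e.hom.left := inferInstanceAs (IsIso ((Over.forget S).map e.hom))
      have : Surjective (p ⊗ₘ p).left := tensorHom_left_of (@Surjective) p p ‹_› ‹_›
      infer_instance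
    rw [Over.comp_left] at s1
    exact Surjective.of_comp (G ◁ p).left (lift a (snd G X)).left

end K205.QuotAct
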