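import Groth.Agent.Fdesc.GrpDimHom
import Groth.Agent.Sga3C.HomogConn
import Groth.Agent.Sga3C.LocConn
import Groth.Agent.SGA3.K205.QuotAct

/-!
# Connected components of a quotient `F\G` over a field: irreducible, quasi-compact, and the
# dimension formula `dim F\G + dim F = dim G`
-/

set_option autoImplicit false
universe v u
open CategoryTheory MonoidalCategory CartesianMonoidalCategory MonObj GrpObj AlgebraicGeometry Limits
open Groth.Agent.Fdesc.GrpDimHom Groth.Agent.CycB.RelDim Topology

namespace K205.QuotComp

variable {k : Type u} [Field k] {F G X : Over (Spec (CommRingCat.of k))}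

/-- The connected components of a homogeneous space locally of finite type over a field are irreducible
and quasi-compact. -/
theorem homog_components [GrpObj G] [LocallyOfFiniteType X.hom] (a : AlgGrp.Action G X)
    (hΦ : Surjective (lift a.act (snd G X)).left) (x : X.left) :
    IsIrreducible (connectedComponent x) ∧ IsCompact (connectedComponent x) := by
  have hln : IsLocallyNoetherian X.left := LocallyOfFiniteType.isLocallyNoetherian X.hom
  have hlc := Groth.Agent.Sga3C.LocConn.locallyConnectedSpace_of_isLocallyNoetherian X.left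
  have hqs : QuasiSeparatedSpace X.left := inferInstance
  have hirr := Groth.Agent.Sga3C.HomogConn.isPreirreducible_connectedComponent a hΦ x
  have hcomp := (Groth.Agent.Sga3C.HomogConn.main a hΦ).2.2
  have hopen : IsOpen (connectedComponent x) := isOpen_connectedComponent
  obtain ⟨_, ⟨V, hV, rfl⟩, hgV, hVC⟩ := X.left.isBasis_affineOpens.exists_subset_of_mem_open
    (mem_connectedComponent (x := x)) hopen
  have hsat := hcomp V hV.isCompact
  have hCsat : connectedComponent x ⊆ Groth.Agent.Sga3C.IrrComp.sat (V : Set X.left) := by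
    intro y hy
    obtain ⟨Y, hY, hCY⟩ := exists_mem_irreducibleComponents_subset_of_isIrreducible
      (connectedComponent x) ⟨⟨x, mem_connectedComponent⟩, hirr⟩
    exact ⟨Y, hY, hCY hy, x, hCY mem_connectedComponent, hgV⟩
  exact ⟨⟨⟨x, mem_connectedComponent⟩, hirr⟩,
    hsat.of_isClosed_subset isClosed_connectedComponent hCsat⟩

/-- The transcendence degree of `κ(ξ)` over `κ(p ξ)` is `dim F`, for `ξ` a generic point of `G`. -/
theorem rtd_quot [GrpObj F] [GrpObj G] [LocallyOfFiniteType F.hom] [LocallyOfFiniteType G.hom] (u : F ⟶ G)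
    (p : G ⟶ X) [LocallyOfFiniteType p.left] (hp : IsPullback ((u ▷ G) ≫ μ[G]) (snd F G) p p) :
    ∃ n : ℕ, topologicalKrullDim F.left = n ∧ ∀ ξ : G.left, IsGen ξ → rtd p.left ξ = n := by
  obtain ⟨n, hn, hn'⟩ := rtd_eq F
  refine ⟨n, hn, fun ξ hξ => ?_⟩
  have hpb : IsPullback (snd F G).left ((u ▷ G) ≫ μ[G]).left p.left p.left :=
    (hp.map (Over.forget _)).flip
  -- the point of `G ×_X G`
  let δ : G.left ⟶ pullback p.left p.left := pullback.lift (𝟙 _) (𝟙 _) rfl
  let t₀ : (pullback p.left p.left : Scheme) := δ ξ
  have ht₀2 : pullback.snd p.left p.left t₀ = ξ := by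
    have h1 : δ ≫ pullback.snd p.left p.left = 𝟙 _ := pullback.lift_snd _ _ _
    have h2 : pullback.snd p.left p.left (δ ξ) =
      (δ ≫ pullback.snd p.left p.left) ξ := (Scheme.Hom.comp_apply _ _ _).symm
    rw [h1] at h2
    exact h2
  obtain ⟨t, ht, ht1, htg⟩ := exists_fibGeneric_specializes (pullback.fst p.left p.left) t₀
  have ht2 : pullback.snd p.left p.left t = ξ := by
    apply hξ
    rw [← ht₀2]
    exact ht.map (pullback.snd p.left p.left).continuous
  have e1 : rtd (pullback.fst p.left p.left) t = rtd p.left ξ := by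
    rw [rtd_fst_of_fibGeneric_fst htg, ht2]
  -- transport to `G × F`
  let e : (pullback p.left p.left : Scheme) ≅ (F ⊗ G).left := (hpb.isoPullback).symm
  have he : e.hom ≫ (snd F G).left = pullback.fst p.left p.left := hpb.isoPullback_inv_fst
  let e' : (F ⊗ G).left ≅ (G ⊗ F).left := (Over.forget _).mapIso (β_ F G)
  have he' : e'.hom ≫ (fst G F).left = (snd F G).left := by
    change ((β_ F G).hom ≫ fst G F).left = _
    simp
  let s : (pullback G.hom F.hom : Scheme) := (e ≪≫ e').hom t
  have he2 : (e ≪≫ e').hom ≫ (fst G F).left = pullback.fst p.left p.left := by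
    rw [Iso.trans_hom, Category.assoc, he', he]
  have hsg : FibGeneric (pullback.fst G.hom F.hom) s := by
    have h1 : FibGeneric (pullback.fst p.left p.left) ((e ≪≫ e').inv s) := by
      have : (e ≪≫ e').inv s = t := by
        change (e ≪≫ e').inv ((e ≪≫ e').hom t) = t
        rw [← Scheme.Hom.comp_apply, (e ≪≫ e').hom_inv_id]; rfl
      rw [this]; exact htg
    have h2 := fibGeneric_isIso (e ≪≫ e').inv _ s h1
    have h3 : (e ≪≫ e').inv ≫ pullback.fst p.left p.left = pullback.fst G.hom F.hom := by
      rw [← he2, (e ≪≫ e').inv_hom_id_assoc]; rfl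
    rwa [h3] at h2
  have e2 : rtd (pullback.fst G.hom F.hom) s = rtd (pullback.fst p.left p.left) t := by
    have := rtd_isIso (e ≪≫ e').hom (fst G F).left t
    rw [he2] at this
    exact this.symm
  have e3 := rtd_fst_of_fibGeneric_fst hsg
  rw [← e1, ← e2, e3]
  exact hn' _ ((isGen_iff_fibGeneric _ _).mpr hsg.snd)

/-- **The dimension of the components of a quotient.** -/
theorem dim_component [GrpObj F] [GrpObj G] [LocallyOfFiniteType F.hom] [LocallyOfFiniteType G.hom]
    [LocallyOfFiniteType X.hom] (u : F ⟶ G)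
    (p : G ⟶ X) [Surjective p.left] [LocallyOfFiniteType p.left]
    (hp : IsPullback ((u ▷ G) ≫ μ[G]) (snd F G) p p) (x : X.left)
    (hirr : IsIrreducible (connectedComponent x)) :
    topologicalKrullDim ↥(connectedComponent x) + topologicalKrullDim F.left =
      topologicalKrullDim G.left := by
  obtain ⟨d, hd, hd'⟩ := rtd_eq G
  obtain ⟨n, hn, hn'⟩ := rtd_quot u p hp
  obtain ⟨c, hc⟩ := QuasiSober.sober hirr isClosed_connectedComponent
  obtain ⟨g, hg⟩ := p.left.surjective c
  obtain ⟨ξ, h1, -, h2⟩ := exists_fibGeneric_specializes G.hom g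
  have hξ : IsGen ξ := (isGen_iff_fibGeneric G.hom ξ).mpr h2
  have h3 : p.left ξ ⤳ c := by
    rw [← hg]
    exact h1.map p.left.continuous
  have hcx : c ∈ connectedComponent x := hc.mem
  have h4 : p.left ξ ∈ connectedComponent x := by
    have h5 : closure {p.left ξ} ⊆ connectedComponent c :=
      (isIrreducible_singleton.closure.isConnected.isPreconnected).subset_connectedComponent
        (specializes_iff_mem_closure.mp h3)
    rw [connectedComponent_eq hcx]
    exact h5 (subset_closure rfl)
  have h5 : c ⤳ p.left ξ := hc.specializes h4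
  have h6 : p.left ξ = c := (h3.antisymm h5).eq
  obtain ⟨e, he, he'⟩ := exists_dim_closure X.hom (isAffineOpen_top _) isField_top (p.left ξ)
  have h7 : closure {p.left ξ} = connectedComponent x := by rw [h6]; exact hc.def
  rw [h7] at he'
  have h8 := rtd_comp p.left X.hom ξ
  rw [Over.w, hd' ξ hξ, he, hn' ξ hξ] at h8
  rw [he', hn, hd]
  exact_mod_cast h8.symm

end K205.QuotComp
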