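import Groth.Agent.S3017
import Groth.Agent.S0114
import Groth.Agent.S0115
import Groth.Agent.Flat2C.Thick
import Groth.Agent.Sga3.H823.Thick
import Groth.Agent.Sga3C.QuotProps
import Groth.Agent.SGA3.K205.QuotComp
import Groth.Agent.SGA3.K205.QuotBc

/-!
# The quotient of a (not necessarily flat) group scheme over a local artinian ring by a flat closed subgroup
-/

set_option autoImplicit false
universe v u
open CategoryTheory MonoidalCategory CartesianMonoidalCategory MonObj GrpObj AlgebraicGeometry Limits

namespace K205.QuotArtin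

open Groth.Agent.Sga3C.QuotGrpRel Groth.Agent.Sga3C.QuotRel

variable (A : Type u) [CommRing A] [IsLocalRing A]

/-- The closed point of the base. -/
noncomputable abbrev res : Spec (CommRingCat.of (IsLocalRing.ResidueField A)) ⟶ Spec (CommRingCat.of A) :=
  Spec.map (CommRingCat.ofHom (IsLocalRing.residue A))

instance : IsClosedImmersion (res A) := IsClosedImmersion.spec_of_surjective _ IsLocalRing.residue_surjective

variable [IsArtinianRing A]

instance : Surjective (res A) := by
  have hs : Subsingleton (Spec (CommRingCat.of A)) := inferInstanceAs (Subsingleton (PrimeSpectrum A))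
  exact ⟨fun x => ⟨IsLocalRing.closedPoint _, Subsingleton.elim _ _⟩⟩

theorem isNilpotent_ker_res : IsNilpotent (res A).ker := by
  obtain ⟨n, hn⟩ := (isArtinianRing_iff_isNilpotent_maximalIdeal A).mp ‹_›
  refine ⟨n, ?_⟩
  apply Scheme.IdealSheafData.ext_of_isAffine
  rw [Scheme.IdealSheafData.ideal_pow, Pi.pow_apply, Scheme.Hom.ker_apply]
  let e : A ≃+* Γ(Spec (CommRingCat.of A), ⊤) :=
    (Scheme.ΓSpecIso (CommRingCat.of A)).symm.commRingCatIsoToRingEquiv
  have h := Scheme.ΓSpecIso_inv_naturality (CommRingCat.ofHom (IsLocalRing.residue A))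
  have h' : ∀ a, ((res A).app ⊤).hom (e a) =
      (Scheme.ΓSpecIso (CommRingCat.of (IsLocalRing.ResidueField A))).inv.hom (IsLocalRing.residue A a) :=
    fun a => congr($(h).hom a).symm
  have hinj : Function.Injective (Scheme.ΓSpecIso (CommRingCat.of (IsLocalRing.ResidueField A))).inv.hom :=
    (Scheme.ΓSpecIso (CommRingCat.of (IsLocalRing.ResidueField A))).symm.commRingCatIsoToRingEquiv.injective
  have hk : RingHom.ker ((res A).app ⊤).hom ≤ (IsLocalRing.maximalIdeal A).map e.toRingHom := by
    intro x hx
    obtain ⟨a, rfl⟩ := e.surjective x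
    refine Ideal.mem_map_of_mem e.toRingHom ?_
    rw [RingHom.mem_ker, h'] at hx
    rw [← IsLocalRing.residue_eq_zero_iff]
    exact hinj (hx.trans (map_zero _).symm)
  have h2 : (RingHom.ker ((res A).app ⊤).hom) ^ n ≤ ⊥ := by
    refine (Ideal.pow_right_mono hk n).trans ?_
    rw [← Ideal.map_pow, hn]
    simp
  exact le_bot_iff.mp h2

variable {A} {F G : Over (Spec (CommRingCat.of A))} [GrpObj F] [GrpObj G]

/-- **Existence of the quotient.** -/
theorem exists_quotient [LocallyOfFiniteType G.hom] [Flat F.hom] (u : F ⟶ G) [IsMonHom u]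
    [IsClosedImmersion u.left] :
    ∃ (X : Over (Spec (CommRingCat.of A))) (p : G ⟶ X),
      Flat p.left ∧ Surjective p.left ∧ LocallyOfFinitePresentation p.left ∧
      IsPullback ((u ▷ G) ≫ μ[G]) (snd F G) p p := by
  have hFt : LocallyOfFiniteType F.hom := by
    rw [← Over.w u]; infer_instance
  have hm : Mono u := by
    have : Mono u.left := inferInstance
    exact (Over.forget _).mono_of_mono_map ‹_›
  have hlN : IsLocallyNoetherian (Spec (CommRingCat.of A)) := by
    have : IsNoetherianRing (CommRingCat.of A) := inferInstanceAs (IsNoetherianRing A)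
    infer_instance
  let t := res A
  let := Functor.grpObjObj (F := Over.pullback t) (G := G)
  let := Functor.grpObjObj (F := Over.pullback t) (G := F)
  let F' := (Over.pullback t).obj F
  let G' := (Over.pullback t).obj G
  let u' : F' ⟶ G' := (Over.pullback t).map u
  have hu' : IsMonHom u' := inferInstance
  have hc' : IsClosedImmersion u'.left :=
    MorphismProperty.of_isPullback (Groth.Agent.Sga3C.ActBase.isPullback_map_left t u).flip
      (inferInstanceAs (IsClosedImmersion u.left))
  have hm' : Mono u' := inferInstance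
  have hF' : LocallyOfFiniteType F'.hom := inferInstanceAs (LocallyOfFiniteType (pullback.snd F.hom t))
  have hG' : LocallyOfFiniteType G'.hom := inferInstanceAs (LocallyOfFiniteType (pullback.snd G.hom t))
  have hFf : Flat F'.hom := inferInstanceAs (Flat (pullback.snd F.hom t))
  have hsub : Subsingleton (Spec (CommRingCat.of (IsLocalRing.ResidueField A))) :=
    inferInstanceAs (Subsingleton (PrimeSpectrum (IsLocalRing.ResidueField A)))
  have hGf : Flat G'.hom := inferInstance
  obtain ⟨X₀, p₀, h1, h2, h3, h4, -⟩ := Groth.Agent.S3017.result (IsLocalRing.ResidueField A) F' G' u'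
  have hq₀ : IsQuot (tt u') (ss (F := F') (G := G')) p₀.left :=
    { flat := h1
      surj := h2
      lfp := h3
      rel_iff := fun {T} a b => by
        have h5 := h4.map (Over.forget _)
        constructor
        · intro h
          exact ⟨h5.lift a b h, h5.lift_fst a b h, h5.lift_snd a b h⟩
        · rintro ⟨r, rfl, rfl⟩
          rw [Category.assoc, Category.assoc]
          exact congrArg (fun z => r ≫ z) h5.w }
  have hcc : IsClosedImmersion (pullback.fst G.hom t) := inferInstance
  have D : Groth.Agent.Sga3.H823.Thick.Data (tt u) (ss (F := F) (G := G)) (pullback.fst G.hom t) p₀.left :=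
    { closed := hcc
      surj := inferInstance
      nil := Groth.Agent.Flat2C.Thick.isNilpotent_ker_of_isPullback
        (IsPullback.of_hasPullback G.hom t) (isNilpotent_ker_res A)
      sat_left := fun {T} r a h => by
        refine ⟨pullback.lift (r ≫ ss) (a ≫ pullback.snd G.hom t) ?_, ?_⟩
        · have e1 : tt u ≫ G.hom = ss ≫ G.hom :=
            (Over.w ((u ▷ G) ≫ μ[G])).trans (Over.w (snd F G)).symm
          rw [Category.assoc, ← e1, ← Category.assoc, h, Category.assoc, Category.assoc, pullback.condition]
        · rw [pullback.lift_fst]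
      sat_right := fun {T} r a h => by
        refine ⟨pullback.lift (r ≫ tt u) (a ≫ pullback.snd G.hom t) ?_, ?_⟩
        · have e1 : tt u ≫ G.hom = ss ≫ G.hom :=
            (Over.w ((u ▷ G) ≫ μ[G])).trans (Over.w (snd F G)).symm
          rw [Category.assoc, e1, ← Category.assoc, h, Category.assoc, Category.assoc, pullback.condition]
        · rw [pullback.lift_fst]
      flat := h1
      surjp := h2
      lfp := h3
      rel_iff := fun {T} a b => (hq₀.rel_iff a b).trans (K205.QuotBc.rel_bc_iff t u a b) }
  have hR : IsERel (tt u) (ss (F := F) (G := G)) := isERel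
  -- properties of the two maps
  have hFp : LocallyOfFinitePresentation F.hom := LocallyOfFinitePresentation.iff_locallyOfFiniteType.2 hFt
  have hs1 : Flat (ss (F := F) (G := G)) := inferInstanceAs (Flat (pullback.snd F.hom G.hom))
  have hs2 : LocallyOfFinitePresentation (ss (F := F) (G := G)) :=
    inferInstanceAs (LocallyOfFinitePresentation (pullback.snd F.hom G.hom))
  obtain ⟨σ, hσ⟩ : ∃ σ : F ⊗ G ≅ F ⊗ G, σ.hom ≫ snd F G = (u ▷ G) ≫ μ[G] := by
    refine ⟨{ hom := lift (fst F G) ((u ▷ G) ≫ μ[G]), inv := lift (fst F G) ((fst F G ≫ u)⁻¹ * snd F G), hom_inv_id := ?_, inv_hom_id := ?_ }, by simp⟩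
    · have e1 : (u ▷ G) ≫ μ[G] = (fst F G ≫ u) * snd F G := by
        rw [Hom.mul_def]
        congr 1
      ext1
      · simp
      · rw [Category.assoc, lift_snd, comp_mul, comp_inv, lift_fst_assoc, lift_snd, e1]
        simp
    · have e1 : (u ▷ G) ≫ μ[G] = (fst F G ≫ u) * snd F G := by
        rw [Hom.mul_def]
        congr 1
      ext1
      · simp
      · rw [Category.assoc, lift_snd, e1, comp_mul, lift_fst_assoc, lift_snd]
        simp
  have hσi : IsIso σ.hom := Iso.isIso_hom σ
  have hσi' : IsIso σ.hom.left := inferInstanceAs (IsIso ((Over.forget _).map σ.hom))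
  have hσ' : tt u = σ.hom.left ≫ ss := by
    rw [← Over.comp_left, hσ]
  have ht1 : Flat (tt u) := by rw [hσ']; infer_instance
  have ht2 : LocallyOfFinitePresentation (tt u) := by rw [hσ']; infer_instance
  obtain ⟨X, q, hq⟩ := Groth.Agent.Sga3.H823.Thick.exists_isQuot hR D
  obtain ⟨π, hπ⟩ := hq.exists_desc G.hom (by
    exact (Over.w ((u ▷ G) ≫ μ[G])).trans (Over.w (snd F G)).symm)
  refine ⟨Over.mk π, Over.homMk q hπ, hq.flat, hq.surj, hq.lfp, ?_⟩
  refine IsPullback.of_map (Over.forget _) ?_ (hq.isPullback hR)
  exact Over.OverMorphism.ext (hq.isPullback hR).w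

/-- The components of the quotient. -/
theorem components [LocallyOfFiniteType F.hom] [LocallyOfFiniteType G.hom] (u : F ⟶ G) [IsMonHom u]
    (X : Over (Spec (CommRingCat.of A))) (p : G ⟶ X) [LocallyOfFiniteType X.hom] [Flat p.left]
    [Surjective p.left] [LocallyOfFinitePresentation p.left]
    (hp : IsPullback ((u ▷ G) ≫ μ[G]) (snd F G) p p) (x : X.left) :
    IsIrreducible (connectedComponent x) ∧ IsCompact (connectedComponent x) ∧
      topologicalKrullDim ↥(connectedComponent x) + topologicalKrullDim ↥F.left =
        topologicalKrullDim ↥G.left := by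
  let t := res A
  let := Functor.grpObjObj (F := Over.pullback t) (G := G)
  let := Functor.grpObjObj (F := Over.pullback t) (G := F)
  let F' := (Over.pullback t).obj F
  let G' := (Over.pullback t).obj G
  let X' := (Over.pullback t).obj X
  let u' : F' ⟶ G' := (Over.pullback t).map u
  have hu' : IsMonHom u' := inferInstance
  let p' : G' ⟶ X' := (Over.pullback t).map p
  have hF' : LocallyOfFiniteType F'.hom := inferInstanceAs (LocallyOfFiniteType (pullback.snd F.hom t))
  have hG' : LocallyOfFiniteType G'.hom := inferInstanceAs (LocallyOfFiniteType (pullback.snd G.hom t))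
  have hX' : LocallyOfFiniteType X'.hom := inferInstanceAs (LocallyOfFiniteType (pullback.snd X.hom t))
  have hpb := (Groth.Agent.Sga3C.ActBase.isPullback_map_left t p).flip
  have h1 : Flat p'.left := MorphismProperty.of_isPullback hpb ‹_›
  have h2 : Surjective p'.left := MorphismProperty.of_isPullback hpb ‹_›
  have h3 : LocallyOfFinitePresentation p'.left := MorphismProperty.of_isPullback hpb ‹_›
  have h4 := K205.QuotBc.isPullback_bc t u p hp
  obtain ⟨a, -, ha⟩ := K205.QuotAct.exists_action u' p' h4
  have homeo : ∀ (Y : Over (Spec (CommRingCat.of A))), IsHomeomorph (pullback.fst Y.hom t) := by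
    intro Y
    rw [isHomeomorph_iff_isEmbedding_surjective]
    exact ⟨(pullback.fst Y.hom t).isClosedEmbedding.isEmbedding, (pullback.fst Y.hom t).surjective⟩
  let φ : X'.left ≃ₜ X.left := (homeo X).homeomorph
  obtain ⟨x', rfl⟩ := φ.surjective x
  have hC : connectedComponent (φ x') = φ '' connectedComponent x' := by
    have := φ.image_connectedComponentIn (s := Set.univ) (x := x') (Set.mem_univ _)
    rw [Set.image_univ, φ.surjective.range_eq, connectedComponentIn_univ, connectedComponentIn_univ] at this
    exact this.symm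
  obtain ⟨h5, h6⟩ := K205.QuotComp.homog_components a ha x'
  have h7 := K205.QuotComp.dim_component u' p' h4 x' h5
  rw [hC]
  refine ⟨h5.image _ φ.continuous.continuousOn, h6.image φ.continuous, ?_⟩
  have e1 : topologicalKrullDim ↥(φ '' connectedComponent x') = topologicalKrullDim ↥(connectedComponent x') :=
    (IsHomeomorph.topologicalKrullDim_eq (φ.image _) (φ.image _).isHomeomorph).symm
  have e2 : topologicalKrullDim ↥F.left = topologicalKrullDim ↥F'.left :=
    (IsHomeomorph.topologicalKrullDim_eq _ (homeo F)).symm
  have e3 : topologicalKrullDim ↥G.left = topologicalKrullDim ↥G'.left :=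
    (IsHomeomorph.topologicalKrullDim_eq _ (homeo G)).symm
  rw [e1, e2, e3, h7]

end K205.QuotArtin
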