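import Groth.Agent.S2732
import Mathlib.CategoryTheory.Monoidal.Cartesian.Over
import Mathlib.CategoryTheory.Monoidal.Cartesian.Grp

/-!
# Families of monomorphisms of a scheme of finite presentation into itself are automorphisms
-/

set_option autoImplicit false

universe v u

open CategoryTheory Limits MonoidalCategory CartesianMonoidalCategory MonObj GrpObj AlgebraicGeometry

namespace K205.MonoEndo

/-- A `T`-endomorphism of `T × X`, `X` of finite presentation, which is a monomorphism is an
automorphism; in terms of points. -/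
theorem exists_solution {S : Scheme.{u}} {T X : Over S} [LocallyOfFinitePresentation X.hom]
    [QuasiCompact X.hom] [QuasiSeparated X.hom] (φ : T ⊗ X ⟶ X)
    (hφ : ∀ (T' : Over S) (t : T' ⟶ T) (x y : T' ⟶ X), lift t x ≫ φ = lift t y ≫ φ → x = y)
    (T' : Over S) (t : T' ⟶ T) (x : T' ⟶ X) : ∃ y : T' ⟶ X, lift t y ≫ φ = x := by
  let ψ : T ⊗ X ⟶ T ⊗ X := lift (fst T X) φ
  have hψm : Mono ψ := by
    constructor
    intro Z a b h
    have h1 : a ≫ fst T X = b ≫ fst T X := by
      have := congrArg (· ≫ fst T X) h
      simpa [ψ] using this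
    have h2 : a ≫ φ = b ≫ φ := by
      have := congrArg (· ≫ snd T X) h
      simpa [ψ] using this
    have h3 : a = lift (a ≫ fst T X) (a ≫ snd T X) := by ext1 <;> simp
    have h4 : b = lift (a ≫ fst T X) (b ≫ snd T X) := by rw [h1]; ext1 <;> simp
    have h5 := hφ Z (a ≫ fst T X) (a ≫ snd T X) (b ≫ snd T X) (by rw [← h3, ← h4, h2])
    rw [h3, h4, h5]
  have hψl : Mono ψ.left := inferInstanceAs (Mono ((Over.forget S).map ψ))
  have hfst : (fst T X).left = pullback.fst T.hom X.hom := Over.fst_left
  have h1 : LocallyOfFinitePresentation (fst T X).left := by rw [hfst]; infer_instance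
  have h2 : QuasiCompact (fst T X).left := by rw [hfst]; infer_instance
  have h3 : QuasiSeparated (fst T X).left := by rw [hfst]; infer_instance
  have h4 : IsIso ψ.left := Groth.Agent.S2732.result (fst T X).left ψ.left (by
    rw [← Over.comp_left, lift_fst])
  have h5 : IsIso ψ := by
    have : IsIso ((Over.forget S).map ψ) := h4
    exact isIso_of_reflects_iso ψ (Over.forget S)
  refine ⟨lift t x ≫ inv ψ ≫ snd T X, ?_⟩
  have h6 : inv ψ ≫ fst T X = fst T X := by
    rw [IsIso.inv_comp_eq, lift_fst]
  have h7 : lift t (lift t x ≫ inv ψ ≫ snd T X) = lift t x ≫ inv ψ := by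
    ext1
    · simp [h6]
    · simp
  have h8 : φ = ψ ≫ snd T X := (lift_snd _ _).symm
  rw [h7, h8, Category.assoc, IsIso.inv_hom_id_assoc, lift_snd]

end K205.MonoEndo
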