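import Groth.Agent.SGA3.K205.EssFreeBc
import Groth.Agent.Sga3B.BcNat

/-!
# The closed subgroup generated by a morphism: minimality after base change
-/

set_option autoImplicit false

universe v u

open CategoryTheory Limits MonoidalCategory CartesianMonoidalCategory MonObj GrpObj AlgebraicGeometry

namespace K205.GenSub

open K205.EssFreeBc K205.Transporter

variable {k : Type u} [Field k] {G X Γ : Over (Spec (CommRingCat.of k))} [GrpObj G] [GrpObj Γ]
  (f : X ⟶ G) (i : Γ ⟶ G) [IsMonHom i] [IsClosedImmersion i.left]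

/-- Minimality of the subgroup generated by `f` after base change, when `Γ' ∩ Γ_S` is closed. -/
theorem bc_minimal_of_closed (hf : ∃ f' : X ⟶ Γ, f' ≫ i = f)
    (hmin : ∀ (Γ' : Over (Spec (CommRingCat.of k))) (_ : GrpObj Γ') (i' : Γ' ⟶ G), IsMonHom i' →
      IsClosedImmersion i'.left → (∃ f'' : X ⟶ Γ', f'' ≫ i' = f) → ∃ j : Γ ⟶ Γ', j ≫ i' = i)
    {S : Scheme.{u}} (σ : S ⟶ Spec (CommRingCat.of k)) {Γ' : Over S} [GrpObj Γ']
    (i' : Γ' ⟶ Red.bc σ G) [IsMonHom i']
    (hD : IsClosedImmersion (pullback.snd i'.left ((Over.pullback σ).map i).left))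
    (h : ∃ f'' : Red.bc σ X ⟶ Γ', f'' ≫ i' = (Over.pullback σ).map f) :
    ∃ j : Red.bc σ Γ ⟶ Γ', j ≫ i' = (Over.pullback σ).map i := by
  let D : Over S := Over.mk (pullback.snd i'.left ((Over.pullback σ).map i).left ≫ (Red.bc σ Γ).hom)
  let jD : D ⟶ Red.bc σ Γ := Over.homMk (pullback.snd i'.left ((Over.pullback σ).map i).left)
  have hjD : IsClosedImmersion jD.left := hD
  obtain ⟨T, t, ht, hT⟩ := exists_closed_bc σ (K205.EssFree.isEssentiallyFree_of_field k σ) jD
  have hT' : ∀ (S' : Over (Spec (CommRingCat.of k))) (z : S' ⟶ Γ), (∃ w : S' ⟶ T, w ≫ t = z) ↔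
      ∃ y : Red.bc σ S' ⟶ Γ', y ≫ i' = (Over.pullback σ).map (z ≫ i) := by
    intro S' z
    rw [hT]
    constructor
    · rintro ⟨y, hy⟩
      refine ⟨Over.homMk (y.left ≫ pullback.fst _ _) ?_, ?_⟩
      · rw [← Over.w i', Category.assoc, pullback.condition_assoc, Over.w, ← Over.w y]
        rfl
      · ext
        rw [Functor.map_comp, ← hy]
        change (y.left ≫ pullback.fst _ _) ≫ i'.left = (y.left ≫ pullback.snd _ _) ≫ _
        rw [Category.assoc, pullback.condition, Category.assoc]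
    · rintro ⟨y, hy⟩
      have h1 : y.left ≫ i'.left = ((Over.pullback σ).map z).left ≫ ((Over.pullback σ).map i).left := by
        rw [← Over.comp_left, hy, Functor.map_comp, Over.comp_left]
      refine ⟨Over.homMk (pullback.lift y.left ((Over.pullback σ).map z).left h1) ?_, ?_⟩
      · change pullback.lift _ _ _ ≫ pullback.snd _ _ ≫ (Red.bc σ Γ).hom = _
        rw [pullback.lift_snd_assoc]
        exact Over.w ((Over.pullback σ).map z)
      · ext
        exact pullback.lift_snd _ _ _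
  have hmono : Mono t := Groth.Agent.Sga3C.ClosedSub.mono_of_left t
  obtain ⟨hTg, hTm⟩ := exists_grpObj_of_mem t
    ((hT' _ _).mpr ⟨1, by
      rw [IsMonHom.one_hom, one_eq_one, Functor.map_one, one_comp]⟩)
    (fun {T'} g g' hg hg' => (hT' _ _).mpr (by
      rw [hT'] at hg hg'
      obtain ⟨y, hy⟩ := hg
      obtain ⟨y', hy'⟩ := hg'
      exact ⟨y * y', by rw [mul_comp, mul_comp, Functor.map_mul, hy, hy']⟩))
    (fun {T'} g hg => (hT' _ _).mpr (by
      rw [hT'] at hg
      obtain ⟨y, hy⟩ := hg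
      exact ⟨y⁻¹, by rw [GrpObj.inv_comp, GrpObj.inv_comp, Functor.map_inv', hy]⟩))
  obtain ⟨f', hf'⟩ := hf
  obtain ⟨f'', hf''⟩ := h
  obtain ⟨w, hw⟩ := (hT' _ f').mpr ⟨f'', by rw [hf'', hf']⟩
  obtain ⟨j₀, hj₀⟩ := hmin T hTg (t ≫ i) inferInstance (by rw [Over.comp_left]; infer_instance)
    ⟨w, by rw [reassoc_of% hw, hf']⟩
  have hmi : Mono i := Groth.Agent.Sga3C.ClosedSub.mono_of_left i
  obtain ⟨j, hj⟩ := (hT' _ (𝟙 Γ)).mp ⟨j₀, by
    rw [← cancel_mono i, Category.assoc, hj₀, Category.id_comp]⟩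
  exact ⟨j, by rw [hj, Category.id_comp]⟩

/-- The image of `Γ_S` is contained in every immersed subgroup scheme of `G_S` containing `f_S`. -/
theorem range_subset (hf : ∃ f' : X ⟶ Γ, f' ≫ i = f)
    (hmin : ∀ (Γ' : Over (Spec (CommRingCat.of k))) (_ : GrpObj Γ') (i' : Γ' ⟶ G), IsMonHom i' →
      IsClosedImmersion i'.left → (∃ f'' : X ⟶ Γ', f'' ≫ i' = f) → ∃ j : Γ ⟶ Γ', j ≫ i' = i)
    {S : Scheme.{u}} (σ : S ⟶ Spec (CommRingCat.of k)) {Γ' : Over S} [GrpObj Γ']
    (i' : Γ' ⟶ Red.bc σ G) [IsMonHom i'] [IsImmersion i'.left]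
    (h : ∃ f'' : Red.bc σ X ⟶ Γ', f'' ≫ i' = (Over.pullback σ).map f) :
    Set.range ((Over.pullback σ).map i).left ⊆ Set.range i'.left := by
  rintro _ ⟨z, rfl⟩
  let s : S := (Red.bc σ Γ).hom z
  let q : Spec (CommRingCat.of (S.residueField s)) ⟶ S := S.fromSpecResidueField s
  obtain ⟨w, hw⟩ : ∃ w : (Red.bc q (Red.bc σ Γ)).left, pullback.fst (Red.bc σ Γ).hom q w = z := by
    obtain ⟨w, hw, -⟩ := Scheme.Pullback.exists_preimage_pullback (f := (Red.bc σ Γ).hom) (g := q)
      z (IsLocalRing.closedPoint _) (by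
        rw [show q (IsLocalRing.closedPoint _) = s from S.fromSpecResidueField_apply s _])
    exact ⟨w, hw⟩
  let eG := Groth.Agent.Sga3B.RedIso.und (Groth.Agent.Sga3B.BcIso.bcCompIso q σ G)
  have heG : eG.hom = (Over.pullbackComp q σ).hom.app G :=
    Groth.Agent.Sga3B.BcNat.und_bcCompIso q σ G
  have hmG : IsMonHom eG.inv := inferInstance
  have himm : IsImmersion ((Over.pullback q).map i').left :=
    MorphismProperty.of_isPullback
      (Groth.Agent.Sga3C.ActBase.isPullback_map_left q i').flip ‹IsImmersion i'.left›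
  have hcl : IsClosedImmersion ((Over.pullback q).map i').left :=
    isClosedImmersion_of_isImmersion (k := S.residueField s) ((Over.pullback q).map i')
  let j : Red.bc q Γ' ⟶ Red.bc (q ≫ σ) G := (Over.pullback q).map i' ≫ eG.inv
  have hjm : IsMonHom j := inferInstance
  have hji : IsIso eG.inv.left := inferInstanceAs (IsIso ((Over.forget _).map eG.inv))
  have hjc : IsClosedImmersion j.left := by
    rw [Over.comp_left]; infer_instance
  obtain ⟨f₀, hf₀⟩ := h
  obtain ⟨j', hj'⟩ := bc_minimal_of_closed f i hf hmin (q ≫ σ) j inferInstance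
    ⟨(Over.pullbackComp q σ).hom.app X ≫ (Over.pullback q).map f₀, by
      have h1 := (Over.pullbackComp q σ).hom.naturality f
      simp only [j, Category.assoc]
      rw [← Functor.map_comp_assoc, hf₀]
      change (Over.pullbackComp q σ).hom.app X ≫
        (Over.pullback σ ⋙ Over.pullback q).map f ≫ eG.inv = _
      rw [← Category.assoc, ← h1, ← heG, Category.assoc, Iso.hom_inv_id, Category.comp_id]⟩
  have h2 : (Over.pullback q).map ((Over.pullback σ).map i) =
      ((Over.pullbackComp q σ).inv.app Γ ≫ j') ≫ (Over.pullback q).map i' := by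
    have h3 := (Over.pullbackComp q σ).hom.naturality i
    have h4 : j' ≫ (Over.pullback q).map i' = (Over.pullback (q ≫ σ)).map i ≫ eG.hom := by
      rw [← hj', Category.assoc, Category.assoc, Iso.inv_hom_id, Category.comp_id]
    rw [Category.assoc, h4, heG, h3, Iso.inv_hom_id_app_assoc]
    rfl
  let w' : (Red.bc q Γ').left := ((Over.pullbackComp q σ).inv.app Γ ≫ j').left w
  refine ⟨pullback.fst Γ'.hom q w', ?_⟩
  have h5 := (Groth.Agent.Sga3C.ActBase.isPullback_map_left q i').w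
  have h6 := (Groth.Agent.Sga3C.ActBase.isPullback_map_left q ((Over.pullback σ).map i)).w
  have h7 := congrArg (fun f => f.base w') h5
  have h8 := congrArg (fun f => f.base w) h6
  simp only [Scheme.Hom.comp_base, TopCat.comp_app] at h7 h8
  change i'.left.base ((pullback.fst Γ'.hom q).base w') = _
  rw [← h7, ← hw]
  refine Eq.trans ?_ h8
  congr 1
  rw [h2]
  rfl

/-- Minimality of the subgroup generated by `f` after base change, among immersed subgroup schemes. -/
theorem bc_minimal (hf : ∃ f' : X ⟶ Γ, f' ≫ i = f)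
    (hmin : ∀ (Γ' : Over (Spec (CommRingCat.of k))) (_ : GrpObj Γ') (i' : Γ' ⟶ G), IsMonHom i' →
      IsClosedImmersion i'.left → (∃ f'' : X ⟶ Γ', f'' ≫ i' = f) → ∃ j : Γ ⟶ Γ', j ≫ i' = i)
    {S : Scheme.{u}} (σ : S ⟶ Spec (CommRingCat.of k)) {Γ' : Over S} [GrpObj Γ']
    (i' : Γ' ⟶ Red.bc σ G) [IsMonHom i'] [IsImmersion i'.left]
    (h : ∃ f'' : Red.bc σ X ⟶ Γ', f'' ≫ i' = (Over.pullback σ).map f) :
    ∃ j : Red.bc σ Γ ⟶ Γ', j ≫ i' = (Over.pullback σ).map i := by
  refine bc_minimal_of_closed f i hf hmin σ i' ?_ h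
  have h1 := range_subset f i hf hmin σ i' h
  refine IsClosedImmersion.of_isPreimmersion _ ?_
  rw [Scheme.Pullback.range_snd]
  have : ((Over.pullback σ).map i).left ⁻¹' Set.range i'.left = Set.univ :=
    Set.eq_univ_of_forall fun z => h1 ⟨z, rfl⟩
  rw [this]
  exact isClosed_univ

end K205.GenSub
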