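import Groth.Agent.SGA3.K205.Transporter

/-!
# Products of subgroups `A · B` with `B` normalizing `A`

`exists_semidirect`: if `B` normalizes `A` then `A ⊗ B` has a group structure (the semidirect product,
on an object `P` isomorphic to `A ⊗ B`) for which `(x, y) ↦ a(x) b(y)` is a homomorphism.
-/

set_option autoImplicit false

universe v u

open CategoryTheory Limits MonoidalCategory CartesianMonoidalCategory MonObj GrpObj

namespace K205.Semidirect

variable {C : Type u} [Category.{v} C] [CartesianMonoidalCategory C] [BraidedCategory C]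

theorem exists_semidirect {G A B : C} [GrpObj G] [GrpObj A] [GrpObj B] (a : A ⟶ G) [IsMonHom a]
    [Mono a] (b : B ⟶ G) [IsMonHom b]
    (hN : ∀ (T : C) (y : T ⟶ B) (x : T ⟶ A), ∃ x' : T ⟶ A,
      (y ≫ b) * (x ≫ a) * (y ≫ b)⁻¹ = x' ≫ a) :
    ∃ (P : C) (_ : GrpObj P) (p : P ⟶ G) (e : A ⊗ B ≅ P), IsMonHom p ∧
      e.hom ≫ p = (a ⊗ₘ b) ≫ μ[G] := by
  obtain ⟨P, ⟨e⟩⟩ : ∃ P : C, Nonempty (A ⊗ B ≅ P) := ⟨A ⊗ B, ⟨Iso.refl _⟩⟩
  let n : A ⊗ B ⟶ G ⊗ B := lift ((fst A B ≫ a) * (snd A B ≫ b)) (snd A B)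
  have hn : ∀ (T : C) (z : T ⟶ G ⊗ B), (∃ w : T ⟶ A ⊗ B, w ≫ n = z) ↔
      ∃ x : T ⟶ A, x ≫ a = (z ≫ fst G B) * (z ≫ snd G B ≫ b)⁻¹ := by
    intro T z
    constructor
    · rintro ⟨w, rfl⟩
      refine ⟨w ≫ fst A B, ?_⟩
      simp only [n, Category.assoc, lift_fst, lift_snd_assoc, comp_mul, mul_inv_cancel_right]
    · rintro ⟨x, hx⟩
      refine ⟨lift x (z ≫ snd G B), ?_⟩
      ext1
      · simp only [n, Category.assoc, lift_fst, comp_mul, lift_fst_assoc, lift_snd_assoc]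
        rw [hx, inv_mul_cancel_right]
      · simp [n]
  have hmono : Mono n := by
    constructor
    intro T w w' h
    have h1 : w ≫ snd A B = w' ≫ snd A B := by
      have := congrArg (· ≫ snd G B) h
      simpa [n] using this
    have h2 := congrArg (· ≫ fst G B) h
    simp only [n, Category.assoc, lift_fst, comp_mul] at h2
    rw [← Category.assoc w (snd A B), h1, Category.assoc] at h2
    have h3 := mul_right_cancel h2
    rw [← Category.assoc, ← Category.assoc, cancel_mono] at h3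
    ext1
    · exact h3
    · exact h1
  have hn' : ∀ (T : C) (z : T ⟶ G ⊗ B), (∃ w : T ⟶ P, w ≫ e.inv ≫ n = z) ↔
      ∃ x : T ⟶ A, x ≫ a = (z ≫ fst G B) * (z ≫ snd G B ≫ b)⁻¹ := by
    intro T z
    rw [← hn]
    exact ⟨fun ⟨w, hw⟩ => ⟨w ≫ e.inv, by rw [Category.assoc, hw]⟩,
      fun ⟨w, hw⟩ => ⟨w ≫ e.hom, by rw [Category.assoc, e.hom_inv_id_assoc, hw]⟩⟩
  have hmono' : Mono (e.inv ≫ n) := inferInstance
  obtain ⟨hg, hm⟩ := K205.Transporter.exists_grpObj_of_mem (e.inv ≫ n)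
    ((hn' _ _).mpr ⟨1, by
      rw [one_comp, one_eq_one, one_comp, one_comp]; group⟩)
    (fun {T} z z' hz hz' => (hn' _ _).mpr (by
      rw [hn'] at hz hz'
      obtain ⟨x, hx⟩ := hz
      obtain ⟨x', hx'⟩ := hz'
      obtain ⟨x'', hx''⟩ := hN T (z ≫ snd G B) x'
      refine ⟨x * x'', ?_⟩
      rw [mul_comp, hx, ← hx'', hx', mul_comp, mul_comp, Category.assoc]
      group))
    (fun {T} z hz => (hn' _ _).mpr (by
      rw [hn'] at hz
      obtain ⟨x, hx⟩ := hz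
      obtain ⟨x', hx'⟩ := hN T (z⁻¹ ≫ snd G B) x⁻¹
      refine ⟨x', ?_⟩
      rw [← hx', GrpObj.inv_comp x, hx, Category.assoc, GrpObj.inv_comp z, GrpObj.inv_comp z]
      group))
  refine ⟨P, hg, (e.inv ≫ n) ≫ fst G B, e, inferInstance, ?_⟩
  rw [Category.assoc, e.hom_inv_id_assoc]
  simp only [n, lift_fst, Hom.mul_def]
  congr 1
  ext1 <;> simp

end K205.Semidirect
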